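import Groth.Agent.L19.SpreadLfp
import Mathlib.AlgebraicGeometry.RationalMap
import Mathlib.AlgebraicGeometry.Morphisms.Flat
import Mathlib.AlgebraicGeometry.Morphisms.Preimmersion
import Mathlib.RingTheory.Flat.FaithfullyFlat.Algebra

/-!
# Extending morphisms from a flat preimmersed fibre to an open neighbourhood
-/

set_option autoImplicit false
set_option linter.style.haveILetI false
set_option backward.isDefEq.respectTransparency.types false
set_option backward.isDefEq.respectTransparency false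

universe u

open CategoryTheory AlgebraicGeometry TopologicalSpace

namespace Groth.L11.REqHom

variable {X Y Z S : Scheme.{u}}

/-- A flat preimmersion induces isomorphisms on local rings. -/
theorem isIso_stalkMap_of_flat_preimmersion (π : Z ⟶ Y) [Flat π] [IsPreimmersion π] (z : Z) :
    IsIso (π.stalkMap z) := by
  have h1 := π.stalkMap_surjective z
  have h2 : (π.stalkMap z).hom.Flat := (Flat.iff_flat_stalkMap π).mp ‹_› z
  algebraize [(π.stalkMap z).hom]
  haveI : IsLocalHom (algebraMap (Y.presheaf.stalk (π z)) (Z.presheaf.stalk z)) :=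
    inferInstanceAs (IsLocalHom (π.stalkMap z).hom)
  haveI : Module.FaithfullyFlat (Y.presheaf.stalk (π z)) (Z.presheaf.stalk z) :=
    Module.FaithfullyFlat.of_flat_of_isLocalHom
  exact (ConcreteCategory.isIso_iff_bijective _).mpr
    ⟨FaithfulSMul.algebraMap_injective (Y.presheaf.stalk (π z)) (Z.presheaf.stalk z), h1⟩

theorem stalkSpecializes_fromSpecStalkOfMem (U : Y.Opens) {ξ x : Y} (h : ξ ⤳ x) (hx : x ∈ U) :
    Spec.map (Y.presheaf.stalkSpecializes h) ≫ U.fromSpecStalkOfMem x hx =
      U.fromSpecStalkOfMem ξ (h.mem_open U.2 hx) := by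
  rw [← cancel_mono U.ι, Category.assoc, Scheme.Opens.fromSpecStalkOfMem_ι,
    Scheme.Opens.fromSpecStalkOfMem_ι, Scheme.SpecMap_stalkSpecializes_fromSpecStalk]

/-- A morphism on a flat preimmersed integral subspace of an integral scheme extends to an open
containing it. -/
theorem exists_extend_fibre [IsIntegral Y] [IsIntegral Z] (π : Z ⟶ Y) [Flat π] [IsPreimmersion π]
    (q : Y ⟶ S) (f : X ⟶ S) [LocallyOfFinitePresentation f] [X.IsSeparated] [S.IsSeparated]
    (h : Z ⟶ X) (e : h ≫ f = π ≫ q) :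
    ∃ (D : Y.Opens) (hD : Set.range π ⊆ Set.range D.ι) (r : D.toScheme ⟶ X),
      r ≫ f = D.ι ≫ q ∧ IsOpenImmersion.lift D.ι π hD ≫ r = h := by
  haveI : ∀ z, IsIso (π.stalkMap z) := isIso_stalkMap_of_flat_preimmersion π
  let φ : ∀ z : Z, Spec (Y.presheaf.stalk (π z)) ⟶ X :=
    fun z => Spec.map (inv (π.stalkMap z)) ≫ Z.fromSpecStalk z ≫ h
  have hφπ : ∀ z, Spec.map (π.stalkMap z) ≫ φ z = Z.fromSpecStalk z ≫ h := fun z => by
    simp only [φ, ← Spec.map_comp_assoc, IsIso.inv_hom_id, Spec.map_id, Category.id_comp]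
  have hφ : ∀ z, φ z ≫ f = Y.fromSpecStalk (π z) ≫ q := fun z => by
    rw [← cancel_epi (Spec.map (π.stalkMap z)), ← Category.assoc, hφπ, Category.assoc, e,
      ← Scheme.SpecMap_stalkMap_fromSpecStalk_assoc]
  choose U hU g hg hgf using fun z => Groth.L19.SpreadLfp.spread_out' q f (φ z) (hφ z)
  let P : Z → Y.PartialMap X := fun z => ⟨U z, (U z).2.dense ⟨_, hU z⟩, g z⟩
  let ξ : Z := genericPoint Z
  have hξ : ∀ z, π ξ ⤳ π z := fun z => (genericPoint_specializes z).map π.continuous
  have hP : ∀ z, (P z).toRationalMap = (P ξ).toRationalMap := fun z => by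
    refine Scheme.PartialMap.toRationalMap_eq_iff.mpr
      (Scheme.PartialMap.equiv_of_fromSpecStalkOfMem_eq (P z) (P ξ)
        ((hξ z).mem_open (U z).2 (hU z)) (hU ξ) ?_)
    show (U z).fromSpecStalkOfMem _ _ ≫ g z = (U ξ).fromSpecStalkOfMem _ _ ≫ g ξ
    rw [← stalkSpecializes_fromSpecStalkOfMem (U z) (hξ z) (hU z), Category.assoc, ← hg z, ← hg ξ,
      ← cancel_epi (Spec.map (π.stalkMap ξ)), hφπ, ← Spec.map_comp_assoc,
      Scheme.Hom.stalkSpecializes_stalkMap π ξ z (genericPoint_specializes z), Spec.map_comp_assoc,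
      hφπ, ← Category.assoc, Scheme.SpecMap_stalkSpecializes_fromSpecStalk]
  let R := (P ξ).toRationalMap.toPartialMap
  have hUR : ∀ z, π z ∈ R.domain := fun z => by
    have := (P z).le_domain_toRationalMap (hU z)
    rwa [hP z] at this
  have hD : Set.range π ⊆ Set.range R.domain.ι := by
    rw [Scheme.Opens.range_ι]; rintro _ ⟨z, rfl⟩; exact hUR z
  have hres : Y.homOfLE (P ξ).le_domain_toRationalMap ≫ R.hom = g ξ :=
    (P ξ).toPartialMap_toRationalMap_restrict
  refine ⟨R.domain, hD, R.hom, ?_, ?_⟩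
  · haveI : IsDominant (Y.homOfLE (P ξ).le_domain_toRationalMap) :=
      Opens.isDominant_homOfLE (P ξ).dense_domain _
    refine ext_of_isDominant (ι := Y.homOfLE (P ξ).le_domain_toRationalMap) ?_
    rw [← Category.assoc, hres, hgf ξ, Scheme.homOfLE_ι_assoc]
  · haveI : IsDominant (Z.fromSpecStalk ξ) := ⟨Dense.mono (s₁ := {ξ})
      (Set.singleton_subset_iff.mpr (by rw [Scheme.range_fromSpecStalk]; exact specializes_rfl))
      fun w => specializes_iff_mem_closure.mp (genericPoint_specializes w)⟩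
    refine ext_of_isDominant (ι := Z.fromSpecStalk ξ) ?_
    have hl : Z.fromSpecStalk ξ ≫ IsOpenImmersion.lift R.domain.ι π hD =
        Spec.map (π.stalkMap ξ) ≫ (P ξ).domain.fromSpecStalkOfMem (π ξ) (hU ξ) ≫
          Y.homOfLE (P ξ).le_domain_toRationalMap := by
      rw [← cancel_mono R.domain.ι]
      refine Eq.trans ?_ ((Category.assoc _ _ _).trans (congrArg (Spec.map (π.stalkMap ξ) ≫ ·)
        ((Category.assoc _ _ _).trans (congrArg ((P ξ).domain.fromSpecStalkOfMem (π ξ) (hU ξ) ≫ ·)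
          (Scheme.homOfLE_ι Y (P ξ).le_domain_toRationalMap))))).symm
      simp only [Category.assoc, IsOpenImmersion.lift_fac,
        Scheme.Opens.fromSpecStalkOfMem_ι, Scheme.SpecMap_stalkMap_fromSpecStalk]
    rw [← Category.assoc, hl, Category.assoc, Category.assoc, hres]
    show Spec.map _ ≫ (U ξ).fromSpecStalkOfMem (π ξ) _ ≫ g ξ = _
    rw [← hg ξ, hφπ]

end Groth.L11.REqHom
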