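import Groth.Agent.L18.ProjSpace
import Groth.Agent.L16.ProjSpace.BaseChange
import Groth.Prelude.Def_W4c5nonratstablectREq
import Mathlib.Algebra.Polynomial.Eval.Coeff
import Mathlib.RingTheory.Localization.Away.Basic

/-!
# Links along opens of the affine line
-/

set_option autoImplicit false
set_option linter.style.haveILetI false
set_option backward.isDefEq.respectTransparency.types false
set_option backward.isDefEq.respectTransparency false

universe u

open CategoryTheory CategoryTheory.Limits AlgebraicGeometry TopologicalSpace Polynomial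

namespace Groth.L11.REqHom

variable (K : Type u) [Field K]

/-- The coordinate ring of the standard chart of the line is the polynomial ring. -/
theorem chartHom_line_bijective :
    Function.Bijective (Groth.L18.PS.chartHom (C : K →+* K[X]) (fun j : Fin (1 + 1) => if j = 0 then 1 else X)
      0 (by simp)) := by
  let a : Fin (1 + 1) → K[X] := fun j => if j = 0 then 1 else X
  let θ := Groth.L18.PS.chartHom (C : K →+* K[X]) a 0 (by simp [a])
  let ψ : K[X] →+* _ := eval₂RingHom (Groth.L18.PS.chartScalar 1 K 0) (Groth.L18.PS.coord 0 1)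
  have hc : ∀ j : Fin (1 + 1), θ (Groth.L18.PS.coord 0 j) = a j := fun j => by
    simpa [a] using Groth.L18.PS.chartHom_coord (C : K →+* K[X]) a 0 (by simp [a]) j
  have h1 : θ.comp ψ = RingHom.id _ := by
    refine Polynomial.ringHom_ext (fun r => ?_) ?_
    · rw [RingHom.comp_apply, coe_eval₂RingHom, eval₂_C, RingHom.id_apply]
      exact Groth.L18.PS.chartHom_algebraMap _ a 0 _ r
    · rw [RingHom.comp_apply, coe_eval₂RingHom, eval₂_X, hc]
      simp [a]
  have h2 : ψ.comp θ = RingHom.id _ := by
    refine Groth.L18.PS.chart_ringHom_ext 0 ?_ fun j => ?_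
    · rw [RingHom.comp_assoc, Groth.L18.PS.chartHom_comp_scalar, RingHom.id_comp]
      ext r; simp [ψ]
    · rw [RingHom.comp_apply, hc]
      fin_cases j
      · simp [a, Groth.L18.PS.coord_self]
      · simp [a, ψ]
  exact Function.bijective_iff_has_inverse.mpr ⟨ψ, RingHom.congr_fun h2, RingHom.congr_fun h1⟩

/-- The affine line as an open of the projective line. -/
noncomputable def line : Spec (CommRingCat.of K[X]) ⟶ REq.P1K K :=
  Groth.L18.PS.tuplePt (B := CommRingCat.of K[X]) (C : K →+* K[X])
    (fun j => if j = 0 then 1 else X) 0 (by simp) ≫ (Groth.L16.ProjSpace.isoOver 1 K).hom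

instance isOpenImmersion_line : IsOpenImmersion (line K) := by
  haveI : IsIso (CommRingCat.ofHom (Groth.L18.PS.chartHom (C : K →+* K[X])
      (fun j : Fin (1 + 1) => if j = 0 then 1 else X) 0 (by simp))) :=
    (ConcreteCategory.isIso_iff_bijective _).mpr (chartHom_line_bijective K)
  rw [line, Groth.L18.PS.tuplePt]
  infer_instance

theorem line_toSpec : line K ≫ REq.P1K.toSpec K = Spec.map (CommRingCat.ofHom C) := by
  rw [line, Category.assoc]
  erw [Groth.L16.ProjSpace.isoOver_hom_toBase]
  exact Groth.L18.PS.tuplePt_toSpec _ _ _ _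

variable {K} {k : Type u} [Field k] [Algebra k K] {X : Scheme.{u}} (f : X ⟶ Spec (CommRingCat.of k))

/-- Evaluation of the localisation at a point. -/
noncomputable def evalAt (P : K[X]) (c : K) (hc : P.eval c ≠ 0) : Localization.Away P →+* K :=
  IsLocalization.Away.lift P (g := evalRingHom c) (isUnit_iff_ne_zero.mpr hc)

theorem evalAt_algebraMap (P : K[X]) (c : K) (hc : P.eval c ≠ 0) (p : K[X]) :
    evalAt P c hc (algebraMap _ _ p) = p.eval c :=
  IsLocalization.Away.lift_eq P _ p

/-- A morphism on a basic open of the affine line links its values at rational points. -/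
theorem elemLink_of_line (P : K[X]) (h : Spec (CommRingCat.of (Localization.Away P)) ⟶ X)
    (hh : h ≫ f = Spec.map (CommRingCat.ofHom
      ((algebraMap K[X] (Localization.Away P)).comp (C.comp (algebraMap k K)))))
    (c d : K) (hc : P.eval c ≠ 0) (hd : P.eval d ≠ 0) (A B : REq.Pts f K)
    (hA : Spec.map (CommRingCat.ofHom (evalAt P c hc)) ≫ h = A.1)
    (hB : Spec.map (CommRingCat.ofHom (evalAt P d hd)) ≫ h = B.1) :
    REq.ElemLink f K A B := by
  let j : Spec (CommRingCat.of (Localization.Away P)) ⟶ Spec (CommRingCat.of K[X]) :=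
    Spec.map (CommRingCat.ofHom (algebraMap K[X] (Localization.Away P)))
  haveI : IsOpenImmersion j := IsOpenImmersion.of_isLocalization P
  let ι := j ≫ line K
  have hι : ι ≫ REq.P1K.toSpec K =
      Spec.map (CommRingCat.ofHom ((algebraMap K[X] (Localization.Away P)).comp C)) := by
    rw [Category.assoc, line_toSpec, ← Spec.map_comp, ← CommRingCat.ofHom_comp]
  have hsec : ∀ (e : K) (he : P.eval e ≠ 0),
      (Spec.map (CommRingCat.ofHom (evalAt P e he)) ≫ ι.isoOpensRange.hom) ≫ ι.opensRange.ι ≫
        REq.P1K.toSpec K = 𝟙 _ := fun e he => by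
    rw [Category.assoc, ι.isoOpensRange_hom_ι_assoc, hι, ← Spec.map_comp,
      ← CommRingCat.ofHom_comp, ← Spec.map_id]
    congr 1
    ext r
    exact (evalAt_algebraMap P e he _).trans eval_C
  refine ⟨ι.opensRange, ι.isoOpensRange.inv ≫ h, _, _, ?_, hsec c hc, hsec d hd, ?_, ?_⟩
  · rw [← cancel_epi ι.isoOpensRange.hom, Category.assoc, Iso.hom_inv_id_assoc, hh,
      ι.isoOpensRange_hom_ι_assoc, ← Category.assoc, hι, ← Spec.map_comp, ← CommRingCat.ofHom_comp,
      RingHom.comp_assoc]
  · rw [Category.assoc, Iso.hom_inv_id_assoc, hA]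
  · rw [Category.assoc, Iso.hom_inv_id_assoc, hB]

end Groth.L11.REqHom
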