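import Groth.Agent.L11.REq.FibreExtend
import Groth.Agent.L11.SmRegular.Basic
import Groth.Agent.L18.ExtendCodimOne
import Groth.Agent.L18.CurveModel
import Groth.Agent.L16.ProjSpace.Basic
import Groth.Agent.L16.ProjSpace.BaseChange
import Groth.Agent.L05.Point.UnramFlat
import Groth.Agent.L19.ExtendValuation
import Groth.Prelude.Def_W4c5nonratstablectREq

/-!
# Morphisms from the projective line over a function field
-/

set_option autoImplicit false
set_option linter.style.haveILetI false
set_option backward.isDefEq.respectTransparency.types false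
set_option backward.isDefEq.respectTransparency false

universe u

open CategoryTheory CategoryTheory.Limits AlgebraicGeometry TopologicalSpace
open Groth.L16.ProjSpace

namespace Groth.L11.REqHom

section P1K

variable (K : Type u) [Field K]

theorem isIntegral_projSpaceOver_spec (n : ℕ) (R : Type u) [CommRing R] [IsDomain R] :
    IsIntegral (CohB1.ProjSpaceOver n (Spec (CommRingCat.of R))) := by
  haveI : Nonempty (CohB1.ProjSpaceOver n (Spec (CommRingCat.of R))) :=
    ⟨(isoOver n R).hom (genericPt n R)⟩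
  exact isIntegral_of_isOpenImmersion (isoOver n R).inv

theorem stalk_projLine (y : CohB1.ProjSpaceOver 1 (Spec (CommRingCat.of K))) :
    ∃ (_ : IsDomain ((CohB1.ProjSpaceOver 1 (Spec (CommRingCat.of K))).presheaf.stalk y)),
      ValuationRing ((CohB1.ProjSpaceOver 1 (Spec (CommRingCat.of K))).presheaf.stalk y) := by
  let e := (isoOver 1 K).hom
  obtain ⟨x, rfl⟩ := e.surjective y
  haveI : IsRegularLocalRing ((CohB1.ProjSpace 1 K).presheaf.stalk x) := by
    haveI : IsRegularLocalRing ((Spec (CommRingCat.of K)).presheaf.stalk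
        ((CohB1.ProjSpace.toSpec 1 K) x)) := by
      generalize (CohB1.ProjSpace.toSpec 1 K) x = p
      let e1 : (Spec (CommRingCat.of K)).presheaf.stalk p ≃+*
          Localization.AtPrime (R := K) p.asIdeal :=
        (Spec.stalkIso (CommRingCat.of K) p).commRingCatIsoToRingEquiv
      let e2 : K ≃+* Localization.AtPrime (R := K) p.asIdeal :=
        (IsLocalization.atUnits K p.asIdeal.primeCompl
          (fun a ha => isUnit_iff_ne_zero.mpr fun h => ha (h ▸ Ideal.zero_mem _))).toRingEquiv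
      haveI : IsRegularLocalRing K := inferInstance
      exact IsRegularLocalRing.of_ringEquiv (e2.trans e1.symm)
    exact Groth.L11.SmRegular.isRegularLocalRing_stalk (CohB1.ProjSpace.toSpec 1 K) x
  have hd : ringKrullDim ((CohB1.ProjSpace 1 K).presheaf.stalk x) ≤ 1 := by
    obtain ⟨c, hc, hcl⟩ := IsClosed.exists_closed_singleton
      (isClosed_closure (s := ({x} : Set (CohB1.ProjSpace 1 K)))) ⟨x, subset_closure rfl⟩
    exact (Groth.L18.Codim1.ringKrullDim_stalk_le_of_specializes
      (specializes_iff_mem_closure.mpr hc)).trans (Groth.L18.CurveModel.dim_stalk_projLine c hcl).le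
  let ε : (CohB1.ProjSpaceOver 1 (Spec (CommRingCat.of K))).presheaf.stalk (e x) ≃+*
      (CohB1.ProjSpace 1 K).presheaf.stalk x := (asIso (e.stalkMap x)).commRingCatIsoToRingEquiv
  haveI := IsRegularLocalRing.of_ringEquiv ε.symm
  exact Groth.L18.Codim1.isDomain_valuationRing_of_regular _
    ((ringKrullDim_eq_of_ringEquiv ε).trans_le hd)

theorem exists_extend_P1 {X S : Scheme.{u}} (f : X ⟶ S) [IsProper f]
    (q : REq.P1K K ⟶ S) (U : (REq.P1K K).Opens) (hU : (U : Set (REq.P1K K)).Nonempty)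
    (h : U.toScheme ⟶ X) (hf : h ≫ f = U.ι ≫ q) :
    ∃ hb : REq.P1K K ⟶ X, hb ≫ f = q ∧ U.ι ≫ hb = h := by
  haveI : IsIntegral (REq.P1K K) := isIntegral_projSpaceOver_spec 1 K
  haveI : IsLocallyNoetherian (REq.P1K K) :=
    LocallyOfFiniteType.isLocallyNoetherian (REq.P1K.toSpec K)
  obtain ⟨U', hle, g, hg, hgh, hT⟩ := Groth.L18.Codim1.exists_extension_proper f q U
    (U.2.dense hU) h hf Set.univ fun y _ => stalk_projLine K y
  obtain rfl : U' = ⊤ := top_le_iff.mp fun y _ => hT y trivial
  refine ⟨(REq.P1K K).topIso.inv ≫ g, ?_, ?_⟩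
  · rw [Category.assoc, hg, ← Category.assoc,
      show (REq.P1K K).topIso.inv ≫ (⊤ : (REq.P1K K).Opens).ι = 𝟙 _ from
        (REq.P1K K).topIso.inv_hom_id, Category.id_comp]
  · rw [← hgh, ← Category.assoc]
    congr 1
    rw [← cancel_mono (⊤ : (REq.P1K K).Opens).ι, Category.assoc, Scheme.homOfLE_ι,
      show (REq.P1K K).topIso.inv ≫ (⊤ : (REq.P1K K).Opens).ι = 𝟙 _ from
        (REq.P1K K).topIso.inv_hom_id, Category.comp_id]

end P1K

theorem overMap_comp' {A B C : Scheme.{u}} (a : A ⟶ B) (b : B ⟶ C) :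
    overMap 1 a ≫ overMap 1 b = overMap 1 (a ≫ b) := by
  apply pullback.hom_ext <;> simp [overMap]

variable {X S : Scheme.{u}}

/-- The generic point of an open subscheme of an integral scheme, as a point over the function field. -/
noncomputable def pt [IsIntegral X] (W : X.Opens) (hW : genericPoint X ∈ W) :
    Spec X.functionField ⟶ W.toScheme :=
  W.fromSpecStalkOfMem (genericPoint X) hW

theorem pt_ι [IsIntegral X] (W : X.Opens) (hW : genericPoint X ∈ W) :
    pt W hW ≫ W.ι = X.fromSpecStalk (genericPoint X) :=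
  Scheme.Opens.fromSpecStalkOfMem_ι _ _ _

theorem pt_homOfLE [IsIntegral X] (W' W : X.Opens) (h : W' ≤ W) (hW' : genericPoint X ∈ W') :
    pt W' hW' ≫ X.homOfLE h = pt W (h hW') := by
  rw [← cancel_mono W.ι, Category.assoc, Scheme.homOfLE_ι, pt_ι, pt_ι]

theorem flat_pt [IsIntegral X] (W : X.Opens) (hW : genericPoint X ∈ W) : Flat (pt W hW) := by
  haveI : Flat (pt W hW ≫ W.ι) := by
    rw [pt_ι]; exact Groth.L05.Point.flat_fromSpecStalk _
  exact MorphismProperty.of_postcomp (W := @Flat) (W' := @IsOpenImmersion) _ W.ι inferInstance ‹_›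

theorem isPreimmersion_pt [IsIntegral X] (W : X.Opens) (hW : genericPoint X ∈ W) :
    IsPreimmersion (pt W hW) := by
  haveI : IsPreimmersion (pt W hW ≫ W.ι) := by rw [pt_ι]; infer_instance
  exact IsPreimmersion.of_comp _ W.ι

theorem isIntegral_projSpaceOver_affine (n : ℕ) (W : Scheme.{u}) [IsAffine W] [IsIntegral W] :
    IsIntegral (CohB1.ProjSpaceOver n W) := by
  haveI : IsDomain Γ(W, ⊤) := inferInstance
  haveI := isIntegral_projSpaceOver_spec n Γ(W, ⊤)
  haveI : IsIso (overMap n W.isoSpec.hom) :=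
    (isPullback_overMap n W.isoSpec.hom).isIso_fst_of_isIso
  haveI : Nonempty (CohB1.ProjSpaceOver n W) :=
    (inferInstance : Nonempty (CohB1.ProjSpaceOver n (Spec (CommRingCat.of Γ(W, ⊤))))).map
      (inv (overMap n W.isoSpec.hom))
  exact isIntegral_of_isOpenImmersion (overMap n W.isoSpec.hom)

/-- A morphism on the projective line over the function field spreads out over an affine
neighbourhood of the generic point. -/
theorem exists_spread_P1 [IsIntegral X] (f : X ⟶ S) [LocallyOfFinitePresentation f] [X.IsSeparated]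
    [S.IsSeparated] (W : X.Opens) (hWa : IsAffineOpen W) (hW : genericPoint X ∈ W)
    (hb : REq.P1K X.functionField ⟶ X)
    (he : hb ≫ f = REq.P1K.toSpec X.functionField ≫ X.fromSpecStalk (genericPoint X) ≫ f) :
    ∃ (W' : X.Opens) (hW' : genericPoint X ∈ W'), W' ≤ W ∧ IsAffineOpen W' ∧
      ∃ H : CohB1.ProjSpaceOver 1 W'.toScheme ⟶ X,
        H ≫ f = CohB1.ProjSpaceOver.toBase 1 W'.toScheme ≫ W'.ι ≫ f ∧
        overMap 1 (pt W' hW') ≫ H = hb := by
  haveI : IsAffine W.toScheme := hWa
  haveI : Nonempty W.toScheme := ⟨⟨_, hW⟩⟩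
  haveI : IsIntegral W.toScheme := isIntegral_of_isOpenImmersion W.ι
  haveI := isIntegral_projSpaceOver_affine 1 W.toScheme
  haveI : IsIntegral (REq.P1K X.functionField) := isIntegral_projSpaceOver_spec 1 X.functionField
  haveI := flat_pt W hW
  haveI := isPreimmersion_pt W hW
  have sq := isPullback_overMap 1 (pt W hW)
  haveI : Flat (overMap 1 (pt W hW)) := MorphismProperty.of_isPullback sq.flip inferInstance
  haveI : IsPreimmersion (overMap 1 (pt W hW)) := MorphismProperty.of_isPullback sq.flip inferInstance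
  obtain ⟨D, hD, r, hr, hrh⟩ := exists_extend_fibre (overMap 1 (pt W hW))
    (CohB1.ProjSpaceOver.toBase 1 W.toScheme ≫ W.ι ≫ f) f hb (by
      rw [he, sq.w_assoc]
      congr 1
      exact (congrArg (· ≫ f) (pt_ι W hW)).symm.trans (Category.assoc _ _ _))
  let T := CohB1.ProjSpaceOver.toBase 1 W.toScheme
  have hC : IsClosed (T.base '' (D : Set (CohB1.ProjSpaceOver 1 W.toScheme))ᶜ) :=
    T.isClosedMap _ D.2.isClosed_compl
  have hη : (⟨genericPoint X, hW⟩ : W.toScheme) ∉
      T.base '' (D : Set (CohB1.ProjSpaceOver 1 W.toScheme))ᶜ := by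
    rintro ⟨c, hc, hc'⟩
    let p : Spec X.functionField := IsLocalRing.closedPoint X.functionField
    have hp : pt W hW p = ⟨genericPoint X, hW⟩ :=
      Groth.L19.BiratStalk.fromSpecStalkOfMem_closedPoint hW
    obtain ⟨z, hz, -⟩ := Scheme.Pullback.exists_preimage_pullback
      (f := T) (g := pt W hW) c p (hc'.trans hp.symm)
    have hcπ : c ∈ Set.range (overMap 1 (pt W hW)) := ⟨sq.isoPullback.inv z, by
      rw [← Scheme.Hom.comp_apply, sq.isoPullback_inv_fst]; exact hz⟩
    refine hc ?_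
    have := hD hcπ
    rwa [Scheme.Opens.range_ι] at this
  let O : W.toScheme.Opens := ⟨(T.base '' (D : Set (CohB1.ProjSpaceOver 1 W.toScheme))ᶜ)ᶜ,
    hC.isOpen_compl⟩
  obtain ⟨_, ⟨(W' : X.Opens), hW'a, rfl⟩, hηW', hW'O⟩ := X.isBasis_affineOpens.exists_subset_of_mem_open
    (show genericPoint X ∈ W.ι ''ᵁ O from ⟨⟨_, hW⟩, hη, rfl⟩) (W.ι ''ᵁ O).2
  have hle : W' ≤ W := fun x hx => by
    obtain ⟨y, -, rfl⟩ := hW'O hx; exact y.2
  have hrange : Set.range (overMap 1 (X.homOfLE hle)) ⊆ Set.range D.ι := by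
    rw [Scheme.Opens.range_ι]
    rintro _ ⟨z, rfl⟩
    by_contra hz
    obtain ⟨y, hy, hy'⟩ := hW'O (CohB1.ProjSpaceOver.toBase 1 W'.toScheme z).2
    refine hy ⟨_, hz, W.ι.isOpenEmbedding.injective ?_⟩
    refine Eq.trans ?_ hy'.symm
    show W.ι (T (overMap 1 (X.homOfLE hle) z)) = W'.ι (CohB1.ProjSpaceOver.toBase 1 W'.toScheme z)
    simp only [T, ← Scheme.Hom.comp_apply, Category.assoc,
      (isPullback_overMap 1 (X.homOfLE hle)).w_assoc, Scheme.homOfLE_ι]
  refine ⟨W', hηW', hle, hW'a, IsOpenImmersion.lift D.ι (overMap 1 (X.homOfLE hle)) hrange ≫ r,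
    ?_, ?_⟩
  · rw [Category.assoc, hr, IsOpenImmersion.lift_fac_assoc,
      (isPullback_overMap 1 (X.homOfLE hle)).w_assoc, Scheme.homOfLE_ι_assoc]
  · rw [← hrh, ← Category.assoc]
    congr 1
    rw [← cancel_mono D.ι, Category.assoc, IsOpenImmersion.lift_fac, IsOpenImmersion.lift_fac,
      overMap_comp', pt_homOfLE]

end Groth.L11.REqHom
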