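import Mathlib.RingTheory.DiscreteValuationRing.Basic
import Mathlib.RingTheory.Localization.FractionRing
import Mathlib.RingTheory.Polynomial.Basic
import Mathlib.Algebra.Polynomial.Div
import Mathlib.Algebra.MvPolynomial.Eval
import Mathlib.Tactic.FieldSimp
import Mathlib.Tactic.LinearCombination

/-!
# Approximating points over a discretely valued field by rational functions
-/

set_option autoImplicit false
set_option linter.style.haveILetI false
set_option linter.unusedSectionVars false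

universe u

open Polynomial IsLocalRing

namespace Groth.L11.REqHom

variable {K O L : Type u} [Field K] [CommRing O] [IsDomain O] [IsDiscreteValuationRing O]
  [Algebra K O] [Field L] [Algebra O L] [IsFractionRing O L] (t : O) (ht : Irreducible t)
  (ε : O →ₐ[K] K)

/-- Divisibility by a power of the uniformiser in the fraction field. -/
def Near (N : ℤ) (z : L) : Prop := ∃ o : O, z = algebraMap O L t ^ N * algebraMap O L o

include ht in
theorem t_ne : algebraMap O L t ≠ 0 :=
  (map_ne_zero_iff _ (IsFractionRing.injective O L)).mpr ht.ne_zero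

include ht in
theorem near_mono {N M : ℤ} (h : M ≤ N) {z : L} (hz : Near t N z) : Near t M z := by
  obtain ⟨o, rfl⟩ := hz
  obtain ⟨d, hd⟩ := Int.eq_ofNat_of_zero_le (sub_nonneg.mpr h)
  exact ⟨t ^ d * o, by rw [show N = M + (d : ℤ) by omega, zpow_add₀ (t_ne t ht), zpow_natCast,
    map_mul, map_pow]; ring⟩

theorem near_add {N : ℤ} {y z : L} (hy : Near t N y) (hz : Near t N z) : Near t N (y + z) := by
  obtain ⟨a, rfl⟩ := hy
  obtain ⟨b, rfl⟩ := hz
  exact ⟨a + b, by rw [map_add]; ring⟩

theorem near_zero (N : ℤ) : Near t N (0 : L) := ⟨0, by simp⟩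

include ht in
theorem near_mul {N M : ℤ} {y z : L} (hy : Near t N y) (hz : Near t M z) : Near t (N + M) (y * z) := by
  obtain ⟨a, rfl⟩ := hy
  obtain ⟨b, rfl⟩ := hz
  exact ⟨a * b, by rw [zpow_add₀ (t_ne t ht), map_mul]; ring⟩

include ht in
theorem exists_unit_pow (z : L) (hz : z ≠ 0) :
    ∃ (e : ℤ) (w : Oˣ), z = algebraMap O L t ^ e * algebraMap O L w := by
  obtain ⟨a, b, hb, rfl⟩ := IsFractionRing.div_surjective O z
  have ha0 : a ≠ 0 := by rintro rfl; simp at hz
  obtain ⟨m, u, rfl⟩ := IsDiscreteValuationRing.eq_unit_mul_pow_irreducible ha0 ht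
  obtain ⟨n, v, rfl⟩ := IsDiscreteValuationRing.eq_unit_mul_pow_irreducible
    (nonZeroDivisors.ne_zero hb) ht
  refine ⟨(m : ℤ) - n, u * v⁻¹, ?_⟩
  have hv : algebraMap O L (v : O) ≠ 0 := (v.isUnit.map _).ne_zero
  have hvi : algebraMap O L ((v⁻¹ : Oˣ) : O) = (algebraMap O L (v : O))⁻¹ :=
    eq_inv_of_mul_eq_one_left (by rw [← map_mul, Units.inv_mul, map_one])
  rw [zpow_sub₀ (t_ne t ht), zpow_natCast, zpow_natCast, map_mul, map_mul, map_pow, map_pow,
    Units.val_mul, map_mul, hvi]
  field_simp [t_ne (L := L) t ht]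

include ht in
theorem exists_near (z : L) : ∃ e : ℤ, Near t e z := by
  by_cases h : z = 0
  · exact ⟨0, h ▸ near_zero t 0⟩
  · obtain ⟨e, w, hw⟩ := exists_unit_pow t ht z h
    exact ⟨e, w, hw⟩

/-- Continuity at a tuple. -/
def Cont {n : ℕ} (v : Fin n → L) (F : (Fin n → L) → L) : Prop :=
  ∀ N : ℤ, ∃ M : ℤ, ∀ w, (∀ i, Near t M (w i - v i)) → Near t N (F w - F v)

variable {n : ℕ} {v : Fin n → L}

theorem cont_const (c : L) : Cont t v fun _ => c := fun N =>
  ⟨0, fun _ _ => by rw [sub_self]; exact near_zero t N⟩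

theorem cont_proj (i : Fin n) : Cont t v fun w => w i := fun N => ⟨N, fun _ hw => hw i⟩

include ht in
theorem cont_add {F G : (Fin n → L) → L} (hF : Cont t v F) (hG : Cont t v G) :
    Cont t v fun w => F w + G w := fun N => by
  obtain ⟨M, hM⟩ := hF N
  obtain ⟨M', hM'⟩ := hG N
  refine ⟨max M M', fun w hw => ?_⟩
  rw [add_sub_add_comm]
  exact near_add t (hM w fun i => near_mono t ht (le_max_left _ _) (hw i))
    (hM' w fun i => near_mono t ht (le_max_right _ _) (hw i))

include ht in
theorem cont_mul {F G : (Fin n → L) → L} (hF : Cont t v F) (hG : Cont t v G) :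
    Cont t v fun w => F w * G w := fun N => by
  obtain ⟨a, ha⟩ := exists_near t ht (F v)
  obtain ⟨b, hb⟩ := exists_near t ht (G v)
  obtain ⟨M₁, hM₁⟩ := hF (N - b)
  obtain ⟨M₂, hM₂⟩ := hG (max b (N - a))
  obtain ⟨M₃, hM₃⟩ := hF a
  refine ⟨max M₁ (max M₂ M₃), fun w hw => ?_⟩
  have h1 := hM₁ w fun i => near_mono t ht (le_max_left _ _) (hw i)
  have h2 := hM₂ w fun i => near_mono t ht ((le_max_left _ _).trans (le_max_right _ _)) (hw i)
  have hG' : Near t b (G w) := by
    have := near_add t (near_mono t ht (le_max_left _ _) h2) hb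
    rwa [sub_add_cancel] at this
  rw [show F w * G w - F v * G v = (F w - F v) * G w + F v * (G w - G v) by ring]
  refine near_add t ?_ ?_
  · have := near_mul t ht h1 hG'
    rwa [sub_add_cancel] at this
  · exact near_mono t ht (by have := le_max_right b (N - a); omega) (near_mul t ht ha h2)

include ht in
theorem cont_pow {F : (Fin n → L) → L} (hF : Cont t v F) : ∀ m : ℕ, Cont t v fun w => F w ^ m
  | 0 => by simpa using cont_const (L := L) (v := v) t (1 : L)
  | m + 1 => by simpa [pow_succ] using cont_mul t ht (cont_pow hF m) hF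

include ht in
theorem cont_eval₂ {R : Type u} [CommRing R] (σ : R →+* L) (p : MvPolynomial (Fin n) R) :
    Cont t v fun w => MvPolynomial.eval₂Hom σ w p := by
  induction p using MvPolynomial.induction_on with
  | C a => simpa using cont_const (v := v) t (σ a)
  | add p q hp hq => simpa [map_add] using cont_add t ht hp hq
  | mul_X p i hp => simpa [map_mul] using cont_mul t ht hp (cont_proj t i)

include ht in
theorem cont_inv {F : (Fin n → L) → L} (hF : Cont t v F) (h0 : F v ≠ 0) :
    Cont t v fun w => (F w)⁻¹ := fun N => by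
  obtain ⟨e, u, hu⟩ := exists_unit_pow t ht (F v) h0
  obtain ⟨M, hM⟩ := hF (max (e + 1) (N + 2 * e))
  refine ⟨M, fun w hw => ?_⟩
  have h := hM w hw
  obtain ⟨o, ho⟩ := near_mono t ht (le_max_left _ _) h
  obtain ⟨o', ho'⟩ := near_mono t ht (le_max_right _ _) h
  have hu' : IsUnit ((u : O) + t * o) := by
    by_contra hn
    exact ((mem_maximalIdeal _).mp ((Submodule.add_mem_iff_left _
      (Ideal.mul_mem_right _ _ ((mem_maximalIdeal _).mpr ht.not_isUnit))).mp
        ((mem_maximalIdeal _).mpr hn))) u.isUnit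
  have hFw : F w = algebraMap O L t ^ e * algebraMap O L ((u : O) + t * o) := by
    rw [sub_eq_iff_eq_add.mp ho, hu, zpow_add₀ (t_ne t ht), zpow_one, map_add, map_mul]; ring
  refine ⟨-o' * (hu'.unit⁻¹ : Oˣ) * (u⁻¹ : Oˣ), ?_⟩
  have hw0 : algebraMap O L ((u : O) + t * o) ≠ 0 := (hu'.map _).ne_zero
  have hu0 : algebraMap O L (u : O) ≠ 0 := (u.isUnit.map _).ne_zero
  have hi : algebraMap O L ((hu'.unit⁻¹ : Oˣ) : O) = (algebraMap O L ((u : O) + t * o))⁻¹ :=
    eq_inv_of_mul_eq_one_left (by rw [← map_mul, IsUnit.val_inv_mul, map_one])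
  have hui : algebraMap O L ((u⁻¹ : Oˣ) : O) = (algebraMap O L (u : O))⁻¹ :=
    eq_inv_of_mul_eq_one_left (by rw [← map_mul, Units.inv_mul, map_one])
  rw [inv_sub_inv (by rw [hFw]; exact mul_ne_zero (zpow_ne_zero _ (t_ne t ht)) hw0) h0,
    show F v - F w = -(F w - F v) by ring, ho', map_mul, map_mul, map_neg, hi, hui, hFw, hu]
  have hN : algebraMap O L t ^ (N + 2 * e) =
      algebraMap O L t ^ N * algebraMap O L t ^ e * algebraMap O L t ^ e := by
    rw [two_mul, zpow_add₀ (t_ne t ht), zpow_add₀ (t_ne t ht), mul_assoc]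
  rw [hN]
  field_simp [zpow_ne_zero e (t_ne (L := L) t ht)]

include ht ε in
theorem ker_eq : RingHom.ker ε.toRingHom = maximalIdeal O :=
  IsLocalRing.eq_maximalIdeal (RingHom.ker_isMaximal_of_surjective _
    fun c => ⟨algebraMap K O c, ε.commutes c⟩)

include ht ε in
theorem exists_poly (N : ℕ) (o : O) : ∃ (p : K[X]) (r : O), o = aeval t p + t ^ N * r := by
  induction N generalizing o with
  | zero => exact ⟨0, o, by simp⟩
  | succ N ih =>
    have h : o - algebraMap K O (ε o) ∈ maximalIdeal O := by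
      rw [← ker_eq t ht ε, RingHom.mem_ker]
      simp
    rw [ht.maximalIdeal_eq, Ideal.mem_span_singleton'] at h
    obtain ⟨o', ho'⟩ := h
    obtain ⟨p, r, hpr⟩ := ih o'
    exact ⟨C (ε o) + X * p, r, by
      rw [map_add, map_mul, aeval_C, aeval_X]
      linear_combination -ho' + t * hpr⟩

include ht ε in
theorem exists_approx (M : ℤ) (z : L) : ∃ (p : K[X]) (m : ℕ),
    Near t M (algebraMap O L (aeval t p) / algebraMap O L t ^ m - z) := by
  obtain ⟨e, o, rfl⟩ := exists_near t ht z
  obtain ⟨m, hm⟩ : ∃ m : ℕ, 0 ≤ e + m := ⟨(-e).toNat, by omega⟩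
  obtain ⟨d, hd⟩ := Int.eq_ofNat_of_zero_le hm
  obtain ⟨p, r, hr⟩ := exists_poly t ht ε (M + m).toNat (t ^ d * o)
  refine ⟨p, m, near_mono t ht (show M ≤ (((M + m).toNat : ℕ) : ℤ) - m by omega) ⟨-r, ?_⟩⟩
  rw [zpow_sub₀ (t_ne t ht), zpow_natCast, zpow_natCast, show e = (d : ℤ) - m by omega,
    zpow_sub₀ (t_ne t ht), zpow_natCast, zpow_natCast]
  have h : algebraMap O L t ^ d * algebraMap O L o =
      algebraMap O L (aeval t p) + algebraMap O L t ^ (M + m).toNat * algebraMap O L r := by
    rw [← map_pow, ← map_pow, ← map_mul, ← map_mul, ← map_add, hr]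
  rw [map_neg]
  field_simp [t_ne (L := L) t ht]
  linear_combination -h

include ht ε in
theorem aeval_poly_unit (p : K[X]) (hp : p.eval 0 ≠ 0) : IsUnit (aeval t p) := by
  by_contra h
  have : aeval t p ∈ RingHom.ker ε.toRingHom := by rw [ker_eq t ht ε]; exact (mem_maximalIdeal _).mpr h
  refine hp ?_
  rw [RingHom.mem_ker, AlgHom.toRingHom_eq_coe, RingHom.coe_coe, ← Polynomial.aeval_algHom_apply] at this
  have ht0 : ε t = 0 := by
    have : t ∈ RingHom.ker ε.toRingHom := by rw [ker_eq t ht ε]; exact (mem_maximalIdeal _).mpr ht.not_isUnit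
    simpa using this
  rw [ht0] at this
  simpa [coe_aeval_eq_eval] using this

include ht ε in
theorem eval_t (p : K[X]) : ε (aeval t p) = p.eval 0 := by
  rw [← Polynomial.aeval_algHom_apply]
  have ht0 : ε t = 0 := by
    have : t ∈ RingHom.ker ε.toRingHom := by rw [ker_eq t ht ε]; exact (mem_maximalIdeal _).mpr ht.not_isUnit
    simpa using this
  rw [ht0, coe_aeval_eq_eval]

theorem exists_eq_X_pow_mul {F : Type u} [Field F] (p : F[X]) (hp : p ≠ 0) :
    ∃ (m : ℕ) (q : F[X]), p = X ^ m * q ∧ q.eval 0 ≠ 0 := by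
  obtain ⟨q, hq, hd⟩ := Polynomial.exists_eq_pow_rootMultiplicity_mul_and_not_dvd p hp 0
  refine ⟨_, q, by simpa using hq, fun h => hd ?_⟩
  exact Polynomial.dvd_iff_isRoot.mpr h

include ht ε in
theorem aeval_injective : Function.Injective (aeval (R := K) t) := by
  rw [injective_iff_map_eq_zero]
  intro p hp
  by_contra h
  obtain ⟨m, q, rfl, hq⟩ := exists_eq_X_pow_mul p h
  rw [map_mul, map_pow, aeval_X] at hp
  exact mul_ne_zero (pow_ne_zero m ht.ne_zero) (aeval_poly_unit t ht ε q hq).ne_zero hp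

include ht ε in
/-- A rational function integral at the uniformiser is regular at zero. -/
theorem exists_regular_repr {F : Type u} [Field F] [Algebra K[X] F] [IsFractionRing K[X] F]
    (j : F →+* L) (hj : ∀ p, j (algebraMap K[X] F p) = algebraMap O L (aeval t p)) (z : F) (o : O)
    (hz : j z = algebraMap O L o) :
    ∃ p q : K[X], q.eval 0 ≠ 0 ∧ z * algebraMap K[X] F q = algebraMap K[X] F p ∧
      p.eval 0 = ε o * q.eval 0 := by
  obtain ⟨p, q, hq, rfl⟩ := IsFractionRing.div_surjective K[X] z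
  have hq0 : q ≠ 0 := nonZeroDivisors.ne_zero hq
  obtain ⟨m, q', rfl, hq'⟩ := exists_eq_X_pow_mul q hq0
  have hqF : algebraMap K[X] F (X ^ m * q') ≠ 0 :=
    (map_ne_zero_iff _ (IsFractionRing.injective K[X] F)).mpr hq0
  have key : aeval t p = o * aeval t (X ^ m * q') := IsFractionRing.injective O L (by
    rw [map_mul (algebraMap O L), ← hz, ← hj, ← hj, ← map_mul j, div_mul_cancel₀ _ hqF])
  obtain ⟨p', rfl⟩ : X ^ m ∣ p := by
    by_cases hp : p = 0
    · exact hp ▸ dvd_zero _
    obtain ⟨a, p', rfl, hp'⟩ := exists_eq_X_pow_mul p hp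
    refine dvd_mul_of_dvd_left (pow_dvd_pow X ?_) _
    by_contra hlt
    obtain ⟨d, rfl⟩ := Nat.exists_eq_add_of_lt (Nat.lt_of_not_le hlt)
    rw [map_mul, map_mul, map_pow, map_pow, aeval_X, show a + d + 1 = a + (d + 1) from rfl, pow_add,
      pow_succ] at key
    have : aeval t p' = t * (t ^ d * (o * aeval t q')) :=
      mul_left_cancel₀ (pow_ne_zero a ht.ne_zero) (by linear_combination key)
    exact ht.not_isUnit (isUnit_of_dvd_unit ⟨_, this⟩ (aeval_poly_unit t ht ε p' hp'))
  refine ⟨p', q', hq', ?_, ?_⟩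
  · have hXm : algebraMap K[X] F (X ^ m) ≠ 0 := fun h => hqF (by rw [map_mul, h, zero_mul])
    apply mul_left_cancel₀ hXm
    rw [← map_mul, mul_left_comm, ← map_mul, div_mul_cancel₀ _ hqF]
  · rw [map_mul, map_mul, map_pow, aeval_X] at key
    have : aeval t p' = o * aeval t q' :=
      mul_left_cancel₀ (pow_ne_zero m ht.ne_zero) (by linear_combination key)
    rw [← eval_t t ht ε p', ← eval_t t ht ε q', this, map_mul]

end Groth.L11.REqHom
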