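import Groth.Agent.L01.Regular
import Mathlib.RingTheory.Ideal.MinimalPrime.Noetherian
import Mathlib.RingTheory.DiscreteValuationRing.TFAE
import Mathlib.RingTheory.Nakayama

/-!
# Curves through a rational point of a regular local ring avoiding a hypersurface
-/

set_option autoImplicit false
set_option linter.style.haveILetI false

universe u

open IsLocalRing

namespace Groth.L11.REqHom

/-- A principal prime ideal of a Noetherian local domain contains no other non-zero prime. -/
theorem eq_span_of_prime_le {R : Type u} [CommRing R] [IsDomain R] [IsLocalRing R] [IsNoetherianRing R]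
    {x : R} (hx : x ∈ maximalIdeal R) {Q : Ideal R} [Q.IsPrime] (hQ : Q ≠ ⊥) (hle : Q ≤ Ideal.span {x}) :
    Q = Ideal.span {x} := by
  by_contra hne
  have hxQ : x ∉ Q := fun h => hne (le_antisymm hle ((Ideal.span_singleton_le_iff_mem _).mpr h))
  refine hQ (Submodule.eq_bot_of_le_smul_of_le_jacobson_bot (Ideal.span {x}) Q
    (IsNoetherian.noetherian Q) (fun q hq => ?_) ?_)
  · obtain ⟨r, rfl⟩ := Ideal.mem_span_singleton'.mp (hle hq)
    rw [mul_comm]
    exact Submodule.smul_mem_smul (Ideal.mem_span_singleton_self x)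
      ((‹Q.IsPrime›.mem_or_mem hq).resolve_right hxQ)
  · rw [IsLocalRing.jacobson_eq_maximalIdeal ⊥ bot_ne_top]
    exact (Ideal.span_singleton_le_iff_mem _).mpr hx

/-- In a regular local ring of dimension at least two with infinite coefficient field, some regular
parameter does not divide a given non-zero element. -/
theorem exists_param_not_dvd (K : Type u) [Field K] [Infinite K] (R : Type u) [CommRing R]
    [IsRegularLocalRing R] [Algebra K R] (hdim : ¬ ringKrullDim R ≤ 1) (g : R) (hg : g ≠ 0) :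
    ∃ x : R, x ∈ maximalIdeal R ∧ x ∉ maximalIdeal R ^ 2 ∧ g ∉ Ideal.span {x} := by
  haveI : IsDomain R := Groth.L01.isDomain_of_regular R
  have hrk : ¬ (maximalIdeal R).spanFinrank ≤ 1 := fun h => hdim (by
    rw [← (isRegularLocalRing_iff R).mp ‹_›]; exact_mod_cast h)
  have hnak : ∀ S : Ideal R, maximalIdeal R ≤ S ⊔ maximalIdeal R ^ 2 → maximalIdeal R ≤ S := fun S h =>
    Submodule.le_of_le_smul_of_le_jacobson_bot (IsNoetherian.noetherian _)
      (IsLocalRing.jacobson_eq_maximalIdeal ⊥ bot_ne_top).ge (by rwa [smul_eq_mul, ← pow_two])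
  obtain ⟨x₁, hx₁, hx₁'⟩ : ∃ x ∈ maximalIdeal R, x ∉ maximalIdeal R ^ 2 := by
    by_contra! h
    refine hrk ?_
    have := hnak ⊥ (fun x hx => Ideal.mem_sup_right (h x hx))
    rw [le_bot_iff.mp this, Submodule.spanFinrank_bot]
    exact Nat.zero_le _
  obtain ⟨x₂, hx₂, hx₂'⟩ : ∃ x ∈ maximalIdeal R, x ∉ Ideal.span {x₁} ⊔ maximalIdeal R ^ 2 := by
    by_contra! h
    refine hrk ?_
    rw [le_antisymm (hnak _ h) ((Ideal.span_singleton_le_iff_mem _).mpr hx₁)]
    exact (Submodule.spanFinrank_span_le_ncard_of_finite (Set.finite_singleton x₁)).trans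
      (Set.ncard_singleton x₁).le
  let x : K → R := fun c => x₂ + algebraMap K R c * x₁
  have hm : ∀ c, x c ∈ maximalIdeal R := fun c => add_mem hx₂ (Ideal.mul_mem_left _ _ hx₁)
  have hm2 : ∀ c, x c ∉ maximalIdeal R ^ 2 := fun c h => hx₂' <| by
    rw [show x₂ = -algebraMap K R c * x₁ + x c by simp [x]]
    exact Submodule.add_mem_sup (Ideal.mul_mem_left _ _ (Ideal.mem_span_singleton_self x₁)) h
  by_contra! h
  have hprime : ∀ c, (Ideal.span {x c}).IsPrime := fun c => by
    haveI := (Groth.L01.regular_quotient_of_notMem_sq (hm c) (hm2 c)).1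
    haveI : IsDomain (R ⧸ Ideal.span {x c}) := Groth.L01.isDomain_of_regular _
    exact (Ideal.Quotient.isDomain_iff_prime _).mp ‹_›
  have hmem : ∀ c, Ideal.span {x c} ∈ (Ideal.span {g}).minimalPrimes := fun c => by
    refine ⟨⟨hprime c, (Ideal.span_singleton_le_iff_mem _).mpr (h _ (hm c) (hm2 c))⟩,
      fun Q ⟨hQ, hgQ⟩ hQle => ?_⟩
    haveI : Q.IsPrime := hQ
    exact (eq_span_of_prime_le (hm c) (fun h0 => hg (by simpa [h0] using hgQ)) hQle).ge
  have hinj : Function.Injective fun c => Ideal.span {x c} := by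
    intro c d hcd
    by_contra hne
    have hu : IsUnit (algebraMap K R (c - d)) := (sub_ne_zero.mpr hne).isUnit.map _
    have h1 : x₁ ∈ Ideal.span {x c} := by
      refine (Ideal.unit_mul_mem_iff_mem _ hu).mp ?_
      rw [show algebraMap K R (c - d) * x₁ = x c - x d by simp [x]; ring]
      exact sub_mem (Ideal.mem_span_singleton_self _)
        (show x d ∈ Ideal.span {x c} by
          rw [show Ideal.span {x c} = Ideal.span {x d} from hcd]; exact Ideal.mem_span_singleton_self _)
    obtain ⟨r, hr⟩ := Ideal.mem_span_singleton'.mp h1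
    by_cases hru : IsUnit r
    · refine hx₂' (Ideal.mem_sup_left ?_)
      have h2 : x c ∈ Ideal.span {x₁} := by
        obtain ⟨v, rfl⟩ := hru
        exact Ideal.mem_span_singleton'.mpr ⟨(v⁻¹ : Rˣ), by rw [← hr, Units.inv_mul_cancel_left]⟩
      rw [show x₂ = x c - algebraMap K R c * x₁ by simp [x]]
      exact sub_mem h2 (Ideal.mul_mem_left _ _ (Ideal.mem_span_singleton_self x₁))
    · exact hx₁' (by rw [← hr, pow_two]; exact Ideal.mul_mem_mul ((mem_maximalIdeal r).mpr hru) (hm c))
  exact Set.infinite_range_of_injective hinj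
    ((Ideal.finite_minimalPrimes_of_isNoetherianRing R (Ideal.span {g})).subset
      (by rintro _ ⟨c, rfl⟩; exact hmem c))

/-- A prime with regular one-dimensional quotient avoiding a non-zero non-unit. -/
theorem exists_dvr_quotient_avoiding (K : Type u) [Field K] [Infinite K] (R : Type u) [CommRing R]
    [IsRegularLocalRing R] [Algebra K R] (g : R) (hg : g ≠ 0) (hgm : g ∈ maximalIdeal R) :
    ∃ (P : Ideal R) (_ : IsDomain (R ⧸ P)), IsDiscreteValuationRing (R ⧸ P) ∧ g ∉ P := by
  let T : Set (Ideal R) := {P | IsRegularLocalRing (R ⧸ P) ∧ g ∉ P}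
  obtain ⟨P, ⟨hP, hgP⟩, hmax⟩ := WellFounded.has_min (wellFounded_gt (α := Ideal R)) T
    ⟨⊥, IsRegularLocalRing.of_ringEquiv (RingEquiv.quotientBot R).symm, fun h => hg h⟩
  haveI : IsDomain (R ⧸ P) := Groth.L01.isDomain_of_regular _
  refine ⟨P, inferInstance, ?_, hgP⟩
  have hne : P ≠ ⊤ := fun h => hgP (h ▸ trivial)
  have hgm' : Ideal.Quotient.mk P g ∈ maximalIdeal (R ⧸ P) := by
    rw [mem_maximalIdeal, mem_nonunits_iff]
    intro hu
    obtain ⟨y, hy⟩ := Ideal.Quotient.mk_surjective (hu.unit⁻¹ : (R ⧸ P)ˣ).1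
    have h1 : g * y - 1 ∈ P := by
      rw [← Ideal.Quotient.eq_zero_iff_mem, map_sub, map_mul, hy, map_one,
        IsUnit.mul_val_inv, sub_self]
    exact (maximalIdeal.isMaximal R).ne_top ((Ideal.eq_top_iff_one _).mpr
      ((sub_sub_cancel (g * y) 1) ▸ sub_mem (Ideal.mul_mem_right y _ hgm)
        (IsLocalRing.le_maximalIdeal hne h1)))
  have hg0 : Ideal.Quotient.mk P g ≠ 0 := fun h => hgP (Ideal.Quotient.eq_zero_iff_mem.mp h)
  have hnf : ¬ IsField (R ⧸ P) := fun hF => by
    letI := hF.toField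
    exact ((mem_maximalIdeal _).mp hgm') (isUnit_iff_ne_zero.mpr hg0)
  by_cases hd : ringKrullDim (R ⧸ P) ≤ 1
  · have hspan : (maximalIdeal (R ⧸ P)).spanFinrank ≤ 1 := by
      rw [← (isRegularLocalRing_iff (R ⧸ P)).mp hP] at hd
      exact_mod_cast hd
    have hpr : (maximalIdeal (R ⧸ P)).IsPrincipal := by
      obtain ⟨s, hs, hspan'⟩ := Submodule.FG.exists_span_finset_card_eq_spanFinrank
        (IsNoetherian.noetherian (maximalIdeal (R ⧸ P)))
      rcases Finset.card_le_one_iff_subset_singleton.mp (hs.trans_le hspan) with ⟨a, ha⟩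
      rcases Finset.subset_singleton_iff.mp ha with rfl | rfl
      · exact ⟨⟨0, by rw [← hspan']; simp⟩⟩
      · exact ⟨⟨a, by rw [← hspan']; simp⟩⟩
    exact ((IsDiscreteValuationRing.TFAE (R ⧸ P) hnf).out 4 0).mp hpr
  · exfalso
    obtain ⟨x, hx, hx2, hxg⟩ := exists_param_not_dvd K (R ⧸ P) hd (Ideal.Quotient.mk P g) hg0
    obtain ⟨x', rfl⟩ := Ideal.Quotient.mk_surjective x
    haveI := (Groth.L01.regular_quotient_of_notMem_sq hx hx2).1
    have hmap : (Ideal.span {x'}).map (Ideal.Quotient.mk P) = Ideal.span {Ideal.Quotient.mk P x'} := by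
      rw [Ideal.map_span, Set.image_singleton]
    refine hmax (P ⊔ Ideal.span {x'}) ⟨IsRegularLocalRing.of_ringEquiv
      ((Ideal.quotEquivOfEq hmap.symm).trans (DoubleQuot.quotQuotEquivQuotSup P (Ideal.span {x'}))),
      fun h => hxg ?_⟩ ?_
    · have h1 := Ideal.mem_map_of_mem (Ideal.Quotient.mk P) h
      rw [Ideal.map_sup, Ideal.map_quotient_self, bot_sup_eq, hmap] at h1
      exact h1
    · refine lt_of_le_of_ne le_sup_left fun h => hx2 ?_
      have hx' : x' ∈ P := h.ge (Ideal.mem_sup_right (Ideal.mem_span_singleton_self x'))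
      rw [Ideal.Quotient.eq_zero_iff_mem.mpr hx']
      exact Ideal.zero_mem _

end Groth.L11.REqHom
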