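import Groth.Agent.L11.REq.P1Spread
import Mathlib.AlgebraicGeometry.Morphisms.Smooth

/-!
# Functors invariant under the projective line and R-equivalence
-/

set_option autoImplicit false
set_option linter.style.haveILetI false
set_option backward.isDefEq.respectTransparency.types false
set_option backward.isDefEq.respectTransparency false

universe u v

open CategoryTheory CategoryTheory.Limits AlgebraicGeometry TopologicalSpace Opposite
open Groth.L16.ProjSpace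

namespace Groth.L11.REqHom

variable {S : Scheme.{u}} (Φ : (Over S)ᵒᵖ ⥤ Type v)

/-- Invariance under the projective line for smooth, separated, quasi-compact integral schemes. -/
def P1Inv : Prop :=
  ∀ (Y : Scheme.{u}) (g : Y ⟶ S) [IsIntegral Y] [Smooth g] [IsSeparated g] [QuasiCompact g],
    Function.Bijective (Φ.map (Over.homMk (CohB1.ProjSpaceOver.toBase 1 Y) rfl :
      Over.mk (CohB1.ProjSpaceOver.toBase 1 Y ≫ g) ⟶ Over.mk g).op)

/-- The map `Φ X → Φ Y` of a morphism over `S`. -/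
noncomputable def act {X Y : Scheme.{u}} {f : X ⟶ S} {g : Y ⟶ S} (a : Y ⟶ X) (h : a ≫ f = g) :
    Φ.obj (op (Over.mk f)) → Φ.obj (op (Over.mk g)) :=
  fun s => Φ.map (Over.homMk a h : Over.mk g ⟶ Over.mk f).op s

theorem act_congr {X Y : Scheme.{u}} {f : X ⟶ S} {g : Y ⟶ S} (a b : Y ⟶ X) (e : a = b)
    (ha : a ≫ f = g) (hb : b ≫ f = g) : act Φ a ha = act Φ b hb := by
  subst e; rfl

theorem act_comp {X Y Z : Scheme.{u}} {f : X ⟶ S} {g : Y ⟶ S} {h : Z ⟶ S} (a : Y ⟶ X) (b : Z ⟶ Y)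
    (ha : a ≫ f = g) (hb : b ≫ g = h) (hba : (b ≫ a) ≫ f = h) (s : Φ.obj (op (Over.mk f))) :
    act Φ b hb (act Φ a ha s) = act Φ (b ≫ a) hba s :=
  (FunctorToTypes.map_comp_apply Φ (Over.homMk a ha : Over.mk g ⟶ Over.mk f).op
    (Over.homMk b hb : Over.mk h ⟶ Over.mk g).op s).symm

theorem act_id {X : Scheme.{u}} {f : X ⟶ S} (h : 𝟙 X ≫ f = f) (s : Φ.obj (op (Over.mk f))) :
    act Φ (𝟙 X) h s = s :=
  FunctorToTypes.map_id_apply Φ s

variable {Φ}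

/-- Two sections of a projective line induce the same map. -/
theorem act_sect_eq (hΦ : P1Inv Φ) {Y : Scheme.{u}} (g : Y ⟶ S) [IsIntegral Y] [Smooth g]
    [IsSeparated g] [QuasiCompact g] (σ τ : Y ⟶ CohB1.ProjSpaceOver 1 Y)
    (hσ : σ ≫ CohB1.ProjSpaceOver.toBase 1 Y = 𝟙 Y) (hτ : τ ≫ CohB1.ProjSpaceOver.toBase 1 Y = 𝟙 Y)
    (s : Φ.obj (op (Over.mk (CohB1.ProjSpaceOver.toBase 1 Y ≫ g)))) :
    act Φ σ (show σ ≫ CohB1.ProjSpaceOver.toBase 1 Y ≫ g = g by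
        rw [← Category.assoc, hσ, Category.id_comp]) s =
      act Φ τ (show τ ≫ CohB1.ProjSpaceOver.toBase 1 Y ≫ g = g by
        rw [← Category.assoc, hτ, Category.id_comp]) s := by
  obtain ⟨t, rfl⟩ := (hΦ Y g).2 s
  change act Φ σ _ (act Φ (CohB1.ProjSpaceOver.toBase 1 Y) rfl t) =
    act Φ τ _ (act Φ (CohB1.ProjSpaceOver.toBase 1 Y) rfl t)
  rw [act_comp Φ _ σ rfl _ (by rw [hσ, Category.id_comp]),
    act_comp Φ _ τ rfl _ (by rw [hτ, Category.id_comp])]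
  exact congrFun (act_congr Φ _ _ (hσ.trans hτ.symm) _ _) t

variable (Φ) {X : Scheme.{u}} [IsIntegral X] (f : X ⟶ S)

/-- Two points over the function field spread to morphisms acting equally on `Φ`. -/
def Good (V : X.Opens) (A B : Spec X.functionField ⟶ X) : Prop :=
  ∃ (W : X.Opens) (hW : genericPoint X ∈ W), W ≤ V ∧
    ∃ (a b : W.toScheme ⟶ X) (ha : a ≫ f = W.ι ≫ f) (hb : b ≫ f = W.ι ≫ f),
      pt W hW ≫ a = A ∧ pt W hW ≫ b = B ∧ act Φ a ha = act Φ b hb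

variable {f} {V : X.Opens}

theorem eq_of_pt_comp_eq [IsSeparated f] (W : X.Opens) (hW : genericPoint X ∈ W)
    (a b : W.toScheme ⟶ X) (ha : a ≫ f = W.ι ≫ f) (hb : b ≫ f = W.ι ≫ f)
    (h : pt W hW ≫ a = pt W hW ≫ b) : a = b := by
  haveI : IsDominant (pt W hW) := Groth.L19.ExtendValuation.isDominant_fromSpecStalkOfMem W hW
  haveI : IsReduced W.toScheme := isReduced_of_isOpenImmersion W.ι
  exact ext_of_isDominant_of_isSeparated f (ha.trans hb.symm) (pt W hW) h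

theorem good_refl [LocallyOfFinitePresentation f] (hV : genericPoint X ∈ V)
    (A : Spec X.functionField ⟶ X) (hA : A ≫ f = X.fromSpecStalk (genericPoint X) ≫ f) :
    Good Φ f V A A := by
  obtain ⟨U, hU, a, h1, h2⟩ := Groth.L19.SpreadLfp.spread_out' f f A hA
  have h3 : (X.homOfLE (inf_le_left : U ⊓ V ≤ U) ≫ a) ≫ f = (U ⊓ V).ι ≫ f := by
    rw [Category.assoc, h2, Scheme.homOfLE_ι_assoc]
  refine ⟨U ⊓ V, ⟨hU, hV⟩, inf_le_right, _, _, h3, h3, ?_, ?_, rfl⟩ <;>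
    rw [← Category.assoc, pt_homOfLE, h1] <;> rfl

theorem good_symm {A B : Spec X.functionField ⟶ X} (h : Good Φ f V A B) : Good Φ f V B A := by
  obtain ⟨W, hW, hWV, a, b, ha, hb, h1, h2, h3⟩ := h
  exact ⟨W, hW, hWV, b, a, hb, ha, h2, h1, h3.symm⟩

theorem good_trans [IsSeparated f] {A B C : Spec X.functionField ⟶ X} (h : Good Φ f V A B)
    (h' : Good Φ f V B C) : Good Φ f V A C := by
  obtain ⟨W, hW, hWV, a, b, ha, hb, h1, h2, h3⟩ := h
  obtain ⟨W', hW', -, b', c, hb', hc, h1', h2', h3'⟩ := h'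
  let i := X.homOfLE (inf_le_left : W ⊓ W' ≤ W)
  let j := X.homOfLE (inf_le_right : W ⊓ W' ≤ W')
  have hi : i ≫ W.ι ≫ f = (W ⊓ W').ι ≫ f := Scheme.homOfLE_ι_assoc _ _ _
  have hj : j ≫ W'.ι ≫ f = (W ⊓ W').ι ≫ f := Scheme.homOfLE_ι_assoc _ _ _
  have hia : (i ≫ a) ≫ f = (W ⊓ W').ι ≫ f := by rw [Category.assoc, ha, hi]
  have hjc : (j ≫ c) ≫ f = (W ⊓ W').ι ≫ f := by rw [Category.assoc, hc, hj]
  have hib : (i ≫ b) ≫ f = (W ⊓ W').ι ≫ f := by rw [Category.assoc, hb, hi]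
  have hjb : (j ≫ b') ≫ f = (W ⊓ W').ι ≫ f := by rw [Category.assoc, hb', hj]
  refine ⟨W ⊓ W', ⟨hW, hW'⟩, inf_le_left.trans hWV, i ≫ a, j ≫ c, hia, hjc, ?_, ?_, ?_⟩
  · rw [← Category.assoc, pt_homOfLE, h1]
  · rw [← Category.assoc, pt_homOfLE, h2']
  · funext s
    rw [← act_comp Φ a i ha hi hia, ← act_comp Φ c j hc hj hjc, h3, ← h3',
      act_comp Φ b i hb hi hib, act_comp Φ b' j hb' hj hjb]
    refine congrFun (act_congr Φ _ _ (eq_of_pt_comp_eq (W ⊓ W') ⟨hW, hW'⟩ _ _ hib hjb ?_) _ _) s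
    rw [← Category.assoc, ← Category.assoc, pt_homOfLE, pt_homOfLE, h2, h1']

/-- The function field lies over the generic point. -/
theorem exists_sect (W : X.Opens) (hW : genericPoint X ∈ W)
    (a : Spec X.functionField ⟶ REq.P1K X.functionField)
    (ha : a ≫ REq.P1K.toSpec X.functionField = 𝟙 _) :
    ∃ (U : X.Opens) (hU : genericPoint X ∈ U) (s : U.toScheme ⟶ CohB1.ProjSpaceOver 1 W.toScheme),
      s ≫ CohB1.ProjSpaceOver.toBase 1 W.toScheme ≫ W.ι = U.ι ∧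
        a ≫ overMap 1 (pt W hW) = pt U hU ≫ s := by
  obtain ⟨U, hU, s, h1, h2⟩ := Groth.L19.SpreadLfp.spread_out' (𝟙 X)
    (CohB1.ProjSpaceOver.toBase 1 W.toScheme ≫ W.ι) (a ≫ overMap 1 (pt W hW)) (by
      rw [Category.assoc, (isPullback_overMap 1 (pt W hW)).w_assoc, pt_ι, Category.comp_id,
        ← Category.assoc]
      exact (congrArg (· ≫ X.fromSpecStalk (genericPoint X)) ha).trans (Category.id_comp _))
  exact ⟨U, hU, s, h2.trans (Category.comp_id _), h1⟩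

theorem good_link (hΦ : P1Inv Φ) [IsProper f] [LocallyOfFinitePresentation f] [X.IsSeparated]
    [S.IsSeparated] [IsAffine S] (hsm : Smooth (V.ι ≫ f)) (hV : genericPoint X ∈ V)
    (U : (REq.P1K X.functionField).Opens) (h : U.toScheme ⟶ X)
    (hh : h ≫ f = U.ι ≫ REq.P1K.toSpec X.functionField ≫ X.fromSpecStalk (genericPoint X) ≫ f)
    (a b : Spec X.functionField ⟶ U.toScheme)
    (ha : a ≫ U.ι ≫ REq.P1K.toSpec X.functionField = 𝟙 _)
    (hb : b ≫ U.ι ≫ REq.P1K.toSpec X.functionField = 𝟙 _) :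
    Good Φ f V (a ≫ h) (b ≫ h) := by
  obtain ⟨hbar, hbf, hbU⟩ := exists_extend_P1 X.functionField f
    (REq.P1K.toSpec X.functionField ≫ X.fromSpecStalk (genericPoint X) ≫ f) U
    ⟨_, (a (IsLocalRing.closedPoint X.functionField)).2⟩ h hh
  obtain ⟨_, ⟨(W : X.Opens), hWa, rfl⟩, hηW, hWV⟩ :=
    X.isBasis_affineOpens.exists_subset_of_mem_open hV V.2
  obtain ⟨W', hηW', hW'W, -, H, hH, hHb⟩ := exists_spread_P1 f W hWa hηW hbar hbf
  obtain ⟨U1, hU1, s1, hs1, hs1'⟩ := exists_sect W' hηW' (a ≫ U.ι) (by rwa [Category.assoc])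
  obtain ⟨U2, hU2, s2, hs2, hs2'⟩ := exists_sect W' hηW' (b ≫ U.ι) (by rwa [Category.assoc])
  obtain ⟨_, ⟨(W₃ : X.Opens), hW₃a, rfl⟩, hη₃, hW₃⟩ := X.isBasis_affineOpens.exists_subset_of_mem_open
    (show genericPoint X ∈ W' ⊓ U1 ⊓ U2 from ⟨⟨hηW', hU1⟩, hU2⟩) (W' ⊓ U1 ⊓ U2).2
  have l0 : W₃ ≤ W' := fun x hx => (hW₃ hx).1.1
  have l1 : W₃ ≤ U1 := fun x hx => (hW₃ hx).1.2
  have l2 : W₃ ≤ U2 := fun x hx => (hW₃ hx).2
  have l3 : W₃ ≤ V := fun x hx => hWV (hW'W (l0 hx))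
  let j := X.homOfLE l0
  have sq := isPullback_overMap 1 j
  have hfac : ∀ (U' : X.Opens) (l : W₃ ≤ U') (s : U'.toScheme ⟶ CohB1.ProjSpaceOver 1 W'.toScheme),
      s ≫ CohB1.ProjSpaceOver.toBase 1 W'.toScheme ≫ W'.ι = U'.ι →
      (X.homOfLE l ≫ s) ≫ CohB1.ProjSpaceOver.toBase 1 W'.toScheme = 𝟙 _ ≫ j := fun U' l s hs => by
    rw [← cancel_mono W'.ι, Category.assoc, Category.assoc, hs, Scheme.homOfLE_ι, Category.id_comp,
      Scheme.homOfLE_ι]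
  let σ := sq.lift (X.homOfLE l1 ≫ s1) (𝟙 _) (hfac U1 l1 s1 hs1)
  let τ := sq.lift (X.homOfLE l2 ≫ s2) (𝟙 _) (hfac U2 l2 s2 hs2)
  haveI : Nonempty W₃.toScheme := ⟨⟨_, hη₃⟩⟩
  haveI : IsIntegral W₃.toScheme := isIntegral_of_isOpenImmersion W₃.ι
  haveI : IsAffine W₃.toScheme := hW₃a
  haveI : Smooth (W₃.ι ≫ f) := by
    rw [← Scheme.homOfLE_ι X l3, Category.assoc]; infer_instance
  haveI : IsAffineHom (W₃.ι ≫ f) := isAffineHom_of_isAffine _
  have hσ : σ ≫ CohB1.ProjSpaceOver.toBase 1 W₃.toScheme = 𝟙 _ := sq.lift_snd _ _ _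
  have hτ : τ ≫ CohB1.ProjSpaceOver.toBase 1 W₃.toScheme = 𝟙 _ := sq.lift_snd _ _ _
  have hH3 : (overMap 1 j ≫ H) ≫ f = CohB1.ProjSpaceOver.toBase 1 W₃.toScheme ≫ W₃.ι ≫ f := by
    rw [Category.assoc, hH, sq.w_assoc, Scheme.homOfLE_ι_assoc]
  have hpt : ∀ (U' : X.Opens) (hU' : genericPoint X ∈ U') (l : W₃ ≤ U')
      (s : U'.toScheme ⟶ CohB1.ProjSpaceOver 1 W'.toScheme)
      (hs : s ≫ CohB1.ProjSpaceOver.toBase 1 W'.toScheme ≫ W'.ι = U'.ι)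
      (c : Spec X.functionField ⟶ U.toScheme),
      (c ≫ U.ι) ≫ overMap 1 (pt W' hηW') = pt U' hU' ≫ s →
      pt W₃ hη₃ ≫ sq.lift (X.homOfLE l ≫ s) (𝟙 _) (hfac U' l s hs) ≫ overMap 1 j ≫ H = c ≫ h := by
    intro U' hU' l s hs c hc
    rw [sq.lift_fst_assoc, Category.assoc, ← Category.assoc, pt_homOfLE, ← Category.assoc, ← hc,
      Category.assoc, Category.assoc, hHb, hbU]
  have haσ : (σ ≫ overMap 1 j ≫ H) ≫ f = W₃.ι ≫ f := by
    rw [Category.assoc, hH3, ← Category.assoc, hσ, Category.id_comp]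
  have hbτ : (τ ≫ overMap 1 j ≫ H) ≫ f = W₃.ι ≫ f := by
    rw [Category.assoc, hH3, ← Category.assoc, hτ, Category.id_comp]
  refine ⟨W₃, hη₃, l3, σ ≫ overMap 1 j ≫ H, τ ≫ overMap 1 j ≫ H, haσ, hbτ,
    hpt U1 hU1 l1 s1 hs1 a hs1', hpt U2 hU2 l2 s2 hs2 b hs2', ?_⟩
  funext s
  rw [← act_comp Φ _ σ hH3 (by rw [← Category.assoc, hσ, Category.id_comp]) haσ,
    ← act_comp Φ _ τ hH3 (by rw [← Category.assoc, hτ, Category.id_comp]) hbτ]
  exact act_sect_eq hΦ (W₃.ι ≫ f) σ τ hσ hτ _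

end Groth.L11.REqHom
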