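import Groth.Agent.L11.REq.Homotopy
import Mathlib.AlgebraicGeometry.Noetherian

/-!
# Unramified classes of almost R-trivial varieties are constant
-/

set_option autoImplicit false
set_option linter.style.haveILetI false
set_option backward.isDefEq.respectTransparency.types false
set_option backward.isDefEq.respectTransparency false

universe u v

open CategoryTheory AlgebraicGeometry TopologicalSpace Opposite

namespace Groth.L11.REqHom

theorem range_eq_range (k : Type u) [Field k]
    (Φ : (Over (Spec (CommRingCat.of k)))ᵒᵖ ⥤ Type v) (hΦ : P1Inv Φ)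
    (X : Scheme.{u}) (f : X ⟶ Spec (CommRingCat.of k)) [IsIntegral X] [IsProper f]
    (hsm : ∃ V : X.Opens, (V : Set X).Nonempty ∧ Smooth (V.ι ≫ f))
    (hR : REq.IsAlmostRTrivial f) :
    ∃ U : X.Opens, (U : Set X).Nonempty ∧ Smooth (U.ι ≫ f) ∧
      Set.range (act Φ U.ι (rfl : U.ι ≫ f = U.ι ≫ f)) =
        Set.range (act Φ (U.ι ≫ f) (Category.comp_id _)) := by
  obtain ⟨V, ⟨v, hv⟩, hsmV⟩ := hsm
  obtain ⟨U, hUd, hU⟩ := hR
  have hηV : genericPoint X ∈ V := (genericPoint_specializes v).mem_open V.2 hv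
  obtain ⟨v', hv'⟩ := hUd.nonempty
  have hηU : genericPoint X ∈ U := (genericPoint_specializes v').mem_open U.2 hv'
  let φ : CommRingCat.of k ⟶ X.functionField :=
    Spec.preimage (X.fromSpecStalk (genericPoint X) ≫ f)
  letI : Algebra k X.functionField := φ.hom.toAlgebra
  have hφ : REq.specMap k X.functionField = X.fromSpecStalk (genericPoint X) ≫ f :=
    Spec.map_preimage _
  haveI : IsNoetherianRing (CommRingCat.of k) := inferInstanceAs (IsNoetherianRing k)
  haveI : LocallyOfFinitePresentation f := inferInstance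
  haveI : X.IsSeparated := (Scheme.isSeparated_iff X).mpr (by
    rw [Limits.terminal.hom_ext (Limits.terminal.from X) (f ≫ Limits.terminal.from _)]; infer_instance)
  obtain ⟨⟨x₀, hx₀⟩, -⟩ := hU k
  let A : REq.Pts f X.functionField := ⟨X.fromSpecStalk (genericPoint X), hφ.symm⟩
  let B : REq.Pts f X.functionField := ⟨REq.specMap k X.functionField ≫ x₀.1, by
    rw [Category.assoc, x₀.2]
    show REq.specMap k X.functionField ≫ REq.specMap k k = _
    rw [show REq.specMap k k = 𝟙 _ by simp [REq.specMap], Category.comp_id]⟩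
  have hA : REq.InOpen f U A := by
    rintro _ ⟨t, rfl⟩
    have : X.fromSpecStalk (genericPoint X) t ∈ Set.range (X.fromSpecStalk (genericPoint X)) :=
      ⟨t, rfl⟩
    rw [Scheme.range_fromSpecStalk] at this
    exact Specializes.mem_open this U.2 hηU
  have hB : REq.InOpen f U B := by
    rintro _ ⟨t, rfl⟩
    exact hx₀ ⟨(REq.specMap k X.functionField) t, rfl⟩
  have key : ∀ P Q : REq.Pts f X.functionField, REq.REquiv f X.functionField P Q →
      Good Φ f V P.1 Q.1 := by
    intro P Q h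
    induction h with
    | rel P Q h =>
      obtain ⟨O, h, a, b, hh, ha, hb, hP, hQ⟩ := h
      rw [← hP, ← hQ]
      exact good_link Φ hΦ hsmV hηV O h (by rw [hh]; congr 2) a b ha hb
    | refl P => exact good_refl Φ hηV _ (P.2.trans hφ)
    | symm P Q _ ih => exact good_symm Φ ih
    | trans P Q R _ _ i1 i2 => exact good_trans Φ i1 i2
  obtain ⟨W, hW, hWV, a, b, ha, hb, h1, h2, h3⟩ := key A B ((hU X.functionField).2 A B hA hB)
  have hbx : ((W.ι ≫ f) ≫ x₀.1) ≫ f = W.ι ≫ f := by
    rw [Category.assoc, x₀.2, show REq.specMap k k = 𝟙 _ by simp [REq.specMap], Category.comp_id]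
  obtain rfl : a = W.ι := eq_of_pt_comp_eq W hW a _ ha rfl (h1.trans (pt_ι W hW).symm)
  obtain rfl : b = (W.ι ≫ f) ≫ x₀.1 := eq_of_pt_comp_eq W hW b _ hb hbx (h2.trans (by
    show REq.specMap k X.functionField ≫ x₀.1 = pt W hW ≫ (W.ι ≫ f) ≫ x₀.1
    rw [← Category.assoc (pt W hW), ← Category.assoc (pt W hW), pt_ι, hφ]))
  have hx : x₀.1 ≫ f = 𝟙 (Spec (CommRingCat.of k)) := x₀.2.trans (by simp [REq.specMap])
  refine ⟨W, ⟨_, hW⟩, ?_, subset_antisymm ?_ ?_⟩
  · rw [← Scheme.homOfLE_ι X hWV, Category.assoc]; infer_instance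
  · rintro _ ⟨s, rfl⟩
    exact ⟨act Φ x₀.1 hx s, (act_comp Φ x₀.1 (W.ι ≫ f) hx (Category.comp_id _) hbx s).trans
      (congrFun h3 s).symm⟩
  · rintro _ ⟨s, rfl⟩
    exact ⟨act Φ f (Category.comp_id f) s,
      act_comp Φ f W.ι (Category.comp_id f) rfl (Category.comp_id _) s⟩

end Groth.L11.REqHom
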