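import Groth.Agent.L11.REq.Retract
import Groth.Agent.L11.REq.Arc
import Groth.Agent.L11.REq.Approx
import Groth.Agent.L11.SmRegular.Basic
import Mathlib.AlgebraicGeometry.Morphisms.Smooth
import Mathlib.RingTheory.Smooth.Basic
import Mathlib.RingTheory.Flat.Basic
import Mathlib.RingTheory.FiniteType

/-!
# Moving rational points of smooth retract rational varieties into the retract
-/

set_option autoImplicit false
set_option linter.style.haveILetI false
set_option linter.unusedSectionVars false
set_option backward.isDefEq.respectTransparency.types false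
set_option backward.isDefEq.respectTransparency false

universe u

open CategoryTheory AlgebraicGeometry TopologicalSpace Polynomial
open scoped TensorProduct

namespace Groth.L11.REqHom

variable {k K B O : Type u} [Field k] [Field K] [Algebra k K] [CommRing B] [Algebra k B]
  [CommRing O] [IsDomain O] [IsDiscreteValuationRing O] [Algebra K O] [Algebra k O] [IsScalarTower k K O]

/-- Rational functions approximating an arc. -/
theorem exists_line [Infinite K] [Algebra.FiniteType k B] (φ : B →ₐ[k] K) (ε : O →ₐ[K] K)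
    (θ : B →ₐ[k] O) (hθ : ∀ x, ε (θ x) = φ x) (b : B) (hb : θ b ≠ 0) {n : ℕ}
    (h : MvPolynomial (Fin n) k) (β : B →+* Localization.Away h)
    (hβk : β.comp (algebraMap k B) = algebraMap k (Localization.Away h))
    (v : Fin n → FractionRing O)
    (hu : IsUnit (MvPolynomial.eval₂Hom ((algebraMap O (FractionRing O)).comp (algebraMap k O)) v h))
    (hβ : ∀ x, IsLocalization.Away.lift h hu (β x) = algebraMap O (FractionRing O) (θ x)) :
    ∃ (P : K[X]) (Ψ : B →+* Localization.Away P) (c : K) (h0 : P.eval 0 ≠ 0) (hc : P.eval c ≠ 0),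
      Ψ.comp (algebraMap k B) = (algebraMap K[X] (Localization.Away P)).comp (C.comp (algebraMap k K)) ∧
      (evalAt P 0 h0).comp Ψ = φ.toRingHom ∧ evalAt P c hc (Ψ b) ≠ 0 := by
  classical
  obtain ⟨t, ht⟩ := IsDiscreteValuationRing.exists_irreducible O
  let L := FractionRing O
  let ι : O →+* L := algebraMap O L
  let σ : k →+* L := ι.comp (algebraMap k O)
  obtain ⟨s, hs⟩ := (Algebra.FiniteType.out : (⊤ : Subalgebra k B).FG)
  have hrep : ∀ x : B, ∃ (m : ℕ) (p : MvPolynomial (Fin n) k),
      β x * algebraMap _ _ h ^ m = algebraMap _ _ p := fun x => IsLocalization.Away.surj h (β x)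
  choose m p hp using hrep
  let ev : (Fin n → L) → MvPolynomial (Fin n) k →+* L := fun w => MvPolynomial.eval₂Hom σ w
  let F : B → (Fin n → L) → L := fun x w => ev w (p x) * ((ev w h) ^ m x)⁻¹
  have hF : ∀ (w : Fin n → L) (hw : IsUnit (ev w h)) (x : B),
      IsLocalization.Away.lift h hw (β x) = F x w := fun w hw x => by
    have := congrArg (IsLocalization.Away.lift h hw) (hp x)
    rw [map_mul, map_pow, IsLocalization.Away.lift_eq, IsLocalization.Away.lift_eq] at this
    exact (eq_mul_inv_iff_mul_eq₀ (pow_ne_zero _ hw.ne_zero)).mpr this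
  have hFv : ∀ x, F x v = ι (θ x) := fun x => (hF v hu x).symm.trans (hβ x)
  have hcont : ∀ x, Cont t v (F x) := fun x => cont_mul t ht (cont_eval₂ t ht σ (p x))
    (cont_inv t ht (cont_pow t ht (cont_eval₂ t ht σ h) (m x)) (pow_ne_zero _ hu.ne_zero))
  have hsmall : ∀ (z : L), z ≠ 0 → ∃ N : ℤ, ∀ z' : L, Near t N (z' - z) → z' ≠ 0 := by
    intro z hz
    obtain ⟨e, u, hu'⟩ := exists_unit_pow t ht z hz
    refine ⟨e + 1, fun z' hz' h0 => ?_⟩
    obtain ⟨o, ho⟩ := hz'
    rw [h0, zero_sub, hu', zpow_add₀ (t_ne t ht), zpow_one, mul_assoc, ← mul_neg] at ho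
    have := IsFractionRing.injective O L ((mul_left_cancel₀ (zpow_ne_zero _ (t_ne t ht)) ho).trans
      (map_mul _ _ _).symm |> fun h => (map_neg (algebraMap O L) _).trans h)
    exact ht.not_isUnit (isUnit_of_dvd_unit ⟨o, this⟩ u.isUnit.neg)
  obtain ⟨Nb, hNb⟩ := hsmall (F b v) (by rw [hFv]; exact (map_ne_zero_iff _ (IsFractionRing.injective O L)).mpr hb)
  obtain ⟨Nh, hNh⟩ := hsmall (ev v h) hu.ne_zero
  obtain ⟨Mb, hMb⟩ := hcont b Nb
  obtain ⟨Mh, hMh⟩ := cont_eval₂ (v := v) t ht σ h Nh
  choose Ms hMs using fun x => hcont x 1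
  obtain ⟨M, hM⟩ := ((insert Mb (insert Mh (s.image Ms))).finite_toSet).bddAbove
  choose q e hq using fun i => exists_approx t ht ε M (v i)
  let w : Fin n → L := fun i => ι (aeval t (q i)) / ι t ^ e i
  have hle : ∀ M', M' ∈ insert Mb (insert Mh (s.image Ms)) → ∀ i, Near t M' (w i - v i) :=
    fun M' h' i => near_mono t ht (hM h') (hq i)
  have hwh : ev w h ≠ 0 := hNh _ (hMh w (hle Mh (by simp)))
  have hwb : F b w ≠ 0 := hNb _ (hMb w (hle Mb (by simp)))
  let FK := FractionRing K[X]
  have hinj : Function.Injective (ι.comp (aeval (R := K) t).toRingHom) :=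
    (IsFractionRing.injective O L).comp (aeval_injective t ht ε)
  let j : FK →+* L := IsFractionRing.lift hinj
  have hj : ∀ r, j (algebraMap K[X] FK r) = ι (aeval t r) := fun r => IsFractionRing.lift_algebraMap hinj r
  let W : Fin n → FK := fun i => algebraMap K[X] FK (q i) / algebraMap K[X] FK X ^ e i
  let σF : k →+* FK := (algebraMap K[X] FK).comp (C.comp (algebraMap k K))
  have hσ : j.comp σF = σ := RingHom.ext fun r => by
    refine (hj (C (algebraMap k K r))).trans ?_
    rw [aeval_C, ← IsScalarTower.algebraMap_apply k K O]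
    rfl
  have hjW : ∀ r, j (MvPolynomial.eval₂Hom σF W r) = ev w r := fun r => by
    rw [MvPolynomial.map_eval₂Hom, hσ]
    refine congrArg (fun z => MvPolynomial.eval₂Hom σ z r) (funext fun i => ?_)
    simp only [W, w, map_div₀, map_pow, hj, aeval_X]
  have hWh : IsUnit (MvPolynomial.eval₂Hom σF W h) :=
    isUnit_iff_ne_zero.mpr fun h0 => hwh (by rw [← hjW, h0, map_zero])
  let Φ : B →+* FK := (IsLocalization.Away.lift h hWh).comp β
  have hΦk : ∀ r : k, Φ (algebraMap k B r) = σF r := fun r => by
    show IsLocalization.Away.lift h hWh (β (algebraMap k B r)) = _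
    rw [show β (algebraMap k B r) = algebraMap k _ r from RingHom.congr_fun hβk r,
      IsScalarTower.algebraMap_apply k (MvPolynomial (Fin n) k) (Localization.Away h),
      IsLocalization.Away.lift_eq, MvPolynomial.algebraMap_eq, MvPolynomial.eval₂Hom_C]
  have hjΦ : ∀ x, j (Φ x) = F x w := fun x => by
    rw [← hF w (isUnit_iff_ne_zero.mpr hwh) x]
    show (j.comp (IsLocalization.Away.lift h hWh)) (β x) = _
    congr 1
    refine IsLocalization.ringHom_ext (Submonoid.powers h) (RingHom.ext fun r => ?_)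
    simp only [RingHom.comp_apply, IsLocalization.Away.lift_eq]
    exact hjW r
  have hgen : ∀ x ∈ s, ∃ pr qr : K[X], qr.eval 0 ≠ 0 ∧
      Φ x * algebraMap K[X] FK qr = algebraMap K[X] FK pr ∧ pr.eval 0 = φ x * qr.eval 0 := by
    intro x hx
    obtain ⟨o, ho⟩ := hMs x w (hle _ (by simp only [Finset.mem_insert, Finset.mem_image]; exact Or.inr (Or.inr ⟨x, hx, rfl⟩)))
    have hjx : j (Φ x) = ι (θ x + t * o) := by
      rw [hjΦ, sub_eq_iff_eq_add.mp ho, hFv, zpow_one, map_add, map_mul]; ring
    obtain ⟨pr, qr, h1, h2, h3⟩ := exists_regular_repr t ht ε j hj (Φ x) _ hjx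
    refine ⟨pr, qr, h1, h2, ?_⟩
    have ht0 : ε t = 0 := by simpa [aeval_X] using eval_t t ht ε (X : K[X])
    rw [h3, map_add, map_mul, ht0, zero_mul, add_zero, hθ]
  choose! pr qr hqr hpr hev using hgen
  let P : K[X] := ∏ x ∈ s, qr x
  have hP0 : P.eval 0 ≠ 0 := by
    rw [eval_prod]; exact Finset.prod_ne_zero_iff.mpr hqr
  have hP : P ≠ 0 := fun h0 => hP0 (by rw [h0, eval_zero])
  have hPu : IsUnit (algebraMap K[X] FK P) :=
    isUnit_iff_ne_zero.mpr ((map_ne_zero_iff _ (IsFractionRing.injective K[X] FK)).mpr hP)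
  let γ : Localization.Away P →+* FK := IsLocalization.Away.lift P hPu
  have hγ : ∀ r, γ (algebraMap K[X] _ r) = algebraMap K[X] FK r := fun r => IsLocalization.Away.lift_eq P hPu r
  have hγinj : Function.Injective γ := by
    refine (IsLocalization.lift_injective_iff _).mpr fun x y => ?_
    have hle' : Submonoid.powers P ≤ nonZeroDivisors K[X] :=
      Submonoid.powers_le.mpr (mem_nonZeroDivisors_of_ne_zero hP)
    rw [(IsLocalization.injective (Localization.Away P) hle').eq_iff,
      (IsFractionRing.injective K[X] FK).eq_iff]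
  have hmem : ∀ x : B, ∃ y, γ y = Φ x ∧ evalAt P 0 hP0 y = φ x := by
    intro x
    have hx : x ∈ Algebra.adjoin k (s : Set B) := by rw [hs]; trivial
    induction hx using Algebra.adjoin_induction with
    | mem x hx =>
      obtain ⟨r, hr⟩ : qr x ∣ P := Finset.dvd_prod_of_mem qr hx
      have hu1 : IsUnit (algebraMap K[X] (Localization.Away P) (qr x)) := by
        have h1 := IsLocalization.Away.algebraMap_isUnit P (S := Localization.Away P)
        have h2 : algebraMap K[X] (Localization.Away P) P =
            algebraMap K[X] (Localization.Away P) (qr x) * algebraMap K[X] (Localization.Away P) r := by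
          rw [← map_mul]; exact congrArg _ hr
        rw [h2] at h1
        exact isUnit_of_mul_isUnit_left h1
      refine ⟨algebraMap _ _ (pr x) * (hu1.unit⁻¹ : (Localization.Away P)ˣ), ?_, ?_⟩
      · refine (hu1.map γ).mul_left_injective ?_
        simp only
        rw [← map_mul, mul_assoc, IsUnit.val_inv_mul, mul_one, hγ, hγ, hpr x hx]
      · refine (hu1.map (evalAt P 0 hP0)).mul_left_injective ?_
        simp only
        rw [← map_mul, mul_assoc, IsUnit.val_inv_mul, mul_one, evalAt_algebraMap, evalAt_algebraMap,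
          hev x hx]
    | algebraMap r =>
      exact ⟨algebraMap _ _ (C (algebraMap k K r)), by rw [hγ, hΦk]; rfl,
        by rw [evalAt_algebraMap, eval_C, φ.commutes]⟩
    | add x y _ _ ihx ihy =>
      obtain ⟨a, ha, ha'⟩ := ihx
      obtain ⟨c, hc, hc'⟩ := ihy
      exact ⟨a + c, by rw [map_add, map_add, ha, hc], by rw [map_add, map_add, ha', hc']⟩
    | mul x y _ _ ihx ihy =>
      obtain ⟨a, ha, ha'⟩ := ihx
      obtain ⟨c, hc, hc'⟩ := ihy
      exact ⟨a * c, by rw [map_mul, map_mul, ha, hc], by rw [map_mul, map_mul, ha', hc']⟩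
  choose ψ hψ hψ0 using hmem
  let Ψ : B →+* Localization.Away P :=
    { toFun := ψ
      map_one' := hγinj (by rw [hψ, map_one, map_one])
      map_mul' := fun x y => hγinj (by rw [hψ, map_mul, map_mul, hψ, hψ])
      map_zero' := hγinj (by rw [hψ, map_zero, map_zero])
      map_add' := fun x y => hγinj (by rw [hψ, map_add, map_add, hψ, hψ]) }
  obtain ⟨mb, num, hnum⟩ := IsLocalization.Away.surj P (ψ b)
  have hnum0 : num ≠ 0 := by
    intro h0
    rw [h0, map_zero] at hnum
    have h1 := (IsLocalization.Away.algebraMap_isUnit P (S := Localization.Away P)).pow mb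
    refine hwb ?_
    rw [← hjΦ, ← hψ, h1.mul_left_eq_zero.mp hnum, map_zero, map_zero]
  obtain ⟨c, hc⟩ : ∃ c : K, (num * P).eval c ≠ 0 := by
    by_contra! h0
    exact mul_ne_zero hnum0 hP (Polynomial.funext fun c => (h0 c).trans eval_zero.symm)
  rw [eval_mul] at hc
  refine ⟨P, Ψ, c, hP0, right_ne_zero_of_mul hc, RingHom.ext fun r => hγinj ?_, RingHom.ext hψ0, fun h0 => ?_⟩
  · exact (hψ _).trans ((hΦk r).trans (hγ _).symm)
  · refine left_ne_zero_of_mul hc ?_
    have h0' : evalAt P c (right_ne_zero_of_mul hc) (ψ b) = 0 := h0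
    rw [← evalAt_algebraMap P c (right_ne_zero_of_mul hc) num, ← hnum, map_mul, h0', zero_mul]

theorem isRegularLocalRing_of_field (K : Type u) [Field K] (q : Ideal K) [q.IsPrime] :
    IsRegularLocalRing (Localization.AtPrime q) :=
  IsRegularLocalRing.of_ringEquiv (IsLocalization.atUnits K q.primeCompl
    (fun a ha => isUnit_iff_ne_zero.mpr fun h => ha (h ▸ Ideal.zero_mem _))
    (S := Localization.AtPrime q)).toRingEquiv

/-- A point of a smooth algebra specialises an arc on which a non-zero element survives. -/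
theorem exists_arc (k B K : Type u) [Field k] [CommRing B] [IsDomain B] [Algebra k B] [Algebra.Smooth k B]
    [Field K] [Infinite K] [Algebra k K] (φ : B →ₐ[k] K) (b : B) (hb : b ≠ 0) (hφb : φ b = 0) :
    ∃ (O : Type u) (_ : CommRing O) (_ : IsDomain O) (_ : IsDiscreteValuationRing O) (_ : Algebra K O)
      (_ : Algebra k O) (_ : IsScalarTower k K O) (ε : O →ₐ[K] K) (θ : B →ₐ[k] O),
      (∀ x, ε (θ x) = φ x) ∧ θ b ≠ 0 := by
  let T := K ⊗[k] B
  let ψ : T →ₐ[K] K := Algebra.TensorProduct.lift (AlgHom.id K K) φ fun _ _ => Commute.all _ _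
  have hψ : ∀ x, ψ ((1 : K) ⊗ₜ[k] x) = φ x := fun x => by
    show Algebra.TensorProduct.lift _ _ _ _ = _
    rw [Algebra.TensorProduct.lift_tmul, map_one, one_mul]
  let p : Ideal T := RingHom.ker ψ.toRingHom
  haveI : p.IsPrime := RingHom.ker_isPrime _
  haveI := isRegularLocalRing_of_field K (p.comap (algebraMap K T))
  haveI : IsRegularLocalRing (Localization.AtPrime p) :=
    Groth.L11.SmRegular.isRegularLocalRing_of_smooth K T p
  let R := Localization.AtPrime p
  have hψu : ∀ y : p.primeCompl, IsUnit (ψ y) := fun y => isUnit_iff_ne_zero.mpr y.2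
  let εR : R →ₐ[K] K := IsLocalization.liftAlgHom (M := p.primeCompl) (f := ψ) hψu
  have hεR : ∀ x, εR (algebraMap T R x) = ψ x := fun x => IsLocalization.lift_eq _ x
  let ιR : B →ₐ[k] R :=
    ((IsScalarTower.toAlgHom K T R).restrictScalars k).comp Algebra.TensorProduct.includeRight
  have hg : ιR b ≠ 0 := by
    intro h
    obtain ⟨⟨y, hy⟩, hy'⟩ := (IsLocalization.map_eq_zero_iff p.primeCompl R _).mp h
    refine hy ?_
    have hinj : Function.Injective (LinearMap.lTensor K (LinearMap.mulLeft k b)) :=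
      Module.Flat.lTensor_preserves_injective_linearMap _ (mul_right_injective₀ hb)
    have hmul : ∀ z : T, LinearMap.lTensor K (LinearMap.mulLeft k b) z = ((1 : K) ⊗ₜ[k] b) * z := by
      intro z
      induction z using TensorProduct.induction_on with
      | zero => simp
      | tmul c x =>
        rw [LinearMap.lTensor_tmul, LinearMap.mulLeft_apply]
        exact ((Algebra.TensorProduct.tmul_mul_tmul 1 c b x).trans (by rw [one_mul])).symm
      | add x y hx hy => rw [map_add, hx, hy, mul_add]
    have : y = 0 := hinj (by rw [hmul, map_zero, mul_comm]; exact hy')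
    show y ∈ RingHom.ker ψ.toRingHom
    rw [this]
    exact Ideal.zero_mem _
  have hεb : εR (ιR b) = 0 := (hεR _).trans ((hψ b).trans hφb)
  have hker : RingHom.ker εR.toRingHom = IsLocalRing.maximalIdeal R :=
    IsLocalRing.eq_maximalIdeal (RingHom.ker_isMaximal_of_surjective _
      fun c => ⟨algebraMap K R c, εR.commutes c⟩)
  obtain ⟨P, hPd, hPv, hgP⟩ := exists_dvr_quotient_avoiding K R (ιR b) hg
    (by rw [← hker]; exact hεb)
  have hPle : ∀ a ∈ P, εR a = 0 := fun a ha => by
    have hP : P ≠ ⊤ := fun h => hgP (h ▸ trivial)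
    have := IsLocalRing.le_maximalIdeal hP ha
    rw [← hker] at this
    exact this
  let εO : (R ⧸ P) →ₐ[K] K := Ideal.Quotient.liftₐ P εR hPle
  refine ⟨R ⧸ P, inferInstance, hPd, hPv, inferInstance, inferInstance, inferInstance, εO,
    ((Ideal.Quotient.mkₐ K P).restrictScalars k).comp ιR, fun x => ?_, fun h => hgP ?_⟩
  · exact (hεR _).trans (hψ x)
  · exact Ideal.Quotient.eq_zero_iff_mem.mp h

end Groth.L11.REqHom
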