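import Groth.Agent.L11.REq.Retract

/-!
# Rational points of an open of projective space are directly linked
-/

set_option autoImplicit false
set_option linter.style.haveILetI false
set_option backward.isDefEq.respectTransparency.types false
set_option backward.isDefEq.respectTransparency false

universe u

open CategoryTheory CategoryTheory.Limits AlgebraicGeometry TopologicalSpace
open Groth.L18.PS CohB1 HomogeneousLocalization

namespace Groth.L11.REqHom

variable {n : ℕ} {R : Type u} [CommRing R] {B : CommRingCat.{u}}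

/-- The point with coordinates `a` read on the complement of a linear form. -/
noncomputable def formPt (σ : R →+* B) (a : Fin (n + 1) → B) (p : MvPolynomial (Fin (n + 1)) R)
    (hp : p ∈ polyGrading n R 1) (h : IsUnit (MvPolynomial.eval₂Hom σ a p)) :
    Spec B ⟶ ProjSpace n R :=
  Spec.map (CommRingCat.ofHom (awayEval σ a p h)) ≫ Proj.awayι (polyGrading n R) p hp one_pos

theorem formPt_eq_tuplePt (σ : R →+* B) (a : Fin (n + 1) → B) (p : MvPolynomial (Fin (n + 1)) R)
    (hp : p ∈ polyGrading n R 1) (h : IsUnit (MvPolynomial.eval₂Hom σ a p))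
    (i : Fin (n + 1)) (hi : IsUnit (a i)) : formPt σ a p hp h = tuplePt σ a i hi := by
  have hip : IsUnit (MvPolynomial.eval₂Hom σ a (MvPolynomial.X i * p)) := by
    rw [map_mul]; exact (isUnit_eval_X σ a hi).mul h
  rw [formPt, tuplePt, Groth.L18.PS.chartHom,
    ← awayEval_awayMap σ a (x := MvPolynomial.X i * p) (X_mem n i) (mul_comm _ _) h hip,
    CommRingCat.ofHom_comp, Spec.map_comp, Category.assoc,
    Proj.SpecMap_awayMap_awayι (polyGrading n R) hp one_pos (X_mem n i) (mul_comm _ _),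
    ← awayEval_awayMap σ a (x := MvPolynomial.X i * p) hp rfl (isUnit_eval_X σ a hi) hip,
    CommRingCat.ofHom_comp, Spec.map_comp, Category.assoc,
    Proj.SpecMap_awayMap_awayι (polyGrading n R) (X_mem n i) one_pos hp rfl]

theorem SpecMap_formPt {C : CommRingCat.{u}} (g : B ⟶ C) (σ : R →+* B) (a : Fin (n + 1) → B)
    (p : MvPolynomial (Fin (n + 1)) R) (hp : p ∈ polyGrading n R 1)
    (h : IsUnit (MvPolynomial.eval₂Hom σ a p))
    (h' : IsUnit (MvPolynomial.eval₂Hom (g.hom.comp σ) (g.hom ∘ a) p)) :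
    Spec.map g ≫ formPt σ a p hp h = formPt (g.hom.comp σ) (g.hom ∘ a) p hp h' := by
  rw [formPt, formPt, ← Spec.map_comp_assoc]
  congr 2
  ext : 1
  exact awayEval_comp g.hom σ a p _ _

theorem formPt_toSpec (σ : R →+* B) (a : Fin (n + 1) → B) (p : MvPolynomial (Fin (n + 1)) R)
    (hp : p ∈ polyGrading n R 1) (h : IsUnit (MvPolynomial.eval₂Hom σ a p)) :
    formPt σ a p hp h ≫ ProjSpace.toSpec n R = Spec.map (CommRingCat.ofHom σ) := by
  rw [formPt, ProjSpace.toSpec, Category.assoc]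
  erw [Proj.awayι_toSpecZero_assoc]
  rw [← Spec.map_comp, ← Spec.map_comp, ← CommRingCat.ofHom_comp, ← CommRingCat.ofHom_comp]
  congr 2
  refine RingHom.ext fun r => ?_
  change awayEval σ a p h (fromZeroRingHom _ _ (algebraMap R (polyGrading n R 0) r)) = σ r
  rw [awayEval, RingHom.comp_apply]
  have : algebraMap (HomogeneousLocalization.Away (polyGrading n R) p) (Localization.Away p)
      (fromZeroRingHom (polyGrading n R) _ (algebraMap R (polyGrading n R 0) r)) =
      algebraMap (MvPolynomial (Fin (n + 1)) R) _ (MvPolynomial.C r) := by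
    rw [HomogeneousLocalization.algebraMap_apply]
    exact Localization.mk_one_eq_algebraMap _
  rw [this, IsLocalization.Away.lift_eq, MvPolynomial.eval₂Hom_C]

variable {k : Type u} [Field k]

/-- A rational point of projective space is given by coordinates. -/
theorem exists_projCoord {n : ℕ} (K : Type u) [Field K] [Algebra k K]
    (x : Spec (CommRingCat.of K) ⟶ ProjSpace n k) (hx : x ≫ ProjSpace.toSpec n k = REq.specMap k K) :
    ∃ (b : Fin (n + 1) → K) (i : Fin (n + 1)) (hi : IsUnit (b i)),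
      x = tuplePt (B := CommRingCat.of K) (algebraMap k K) b i hi := by
  haveI : Subsingleton (Spec (CommRingCat.of K)) := inferInstanceAs (Subsingleton (PrimeSpectrum K))
  obtain ⟨i, hi⟩ := TopologicalSpace.Opens.mem_iSup.mp
    (show x (IsLocalRing.closedPoint K) ∈ ⨆ i, Proj.basicOpen (polyGrading n k) (MvPolynomial.X i) from
      iSup_chart.ge trivial)
  obtain ⟨τ, b, hb, rfl, -⟩ := exists_tuplePt x i (fun y => by
    rwa [Subsingleton.elim y (IsLocalRing.closedPoint K)])
  rw [tuplePt_toSpec] at hx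
  obtain rfl : τ = algebraMap k K := congrArg CommRingCat.Hom.hom (Spec.map_injective hx)
  exact ⟨b, i, hb, rfl⟩

theorem elemLink_projSpace (k : Type u) [Field k] (n : ℕ)
    (V : (CohB1.ProjSpaceOver n (Spec (CommRingCat.of k))).Opens) (K : Type u) [Field K] [Algebra k K]
    (A B : REq.Pts (V.ι ≫ CohB1.ProjSpaceOver.toBase n (Spec (CommRingCat.of k))) K) :
    REq.ElemLink (V.ι ≫ CohB1.ProjSpaceOver.toBase n (Spec (CommRingCat.of k))) K A B := by
  let e := Groth.L16.ProjSpace.isoOver n k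
  have he : e.inv ≫ ProjSpace.toSpec n k = CohB1.ProjSpaceOver.toBase n _ := by
    rw [Iso.inv_comp_eq, Groth.L16.ProjSpace.isoOver_hom_toBase]
  obtain ⟨a, i, hai, hA⟩ := exists_projCoord K (A.1 ≫ V.ι ≫ e.inv)
    (by rw [Category.assoc, Category.assoc, he]; exact A.2)
  obtain ⟨b, j, hbj, hB⟩ := exists_projCoord K (B.1 ≫ V.ι ≫ e.inv)
    (by rw [Category.assoc, Category.assoc, he]; exact B.2)
  obtain ⟨p, hp, hpa, hpb⟩ : ∃ p : MvPolynomial (Fin (n + 1)) k, p ∈ polyGrading n k 1 ∧
      MvPolynomial.eval₂Hom (algebraMap k K) a p ≠ 0 ∧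
      MvPolynomial.eval₂Hom (algebraMap k K) b p ≠ 0 := by
    by_cases h1 : b i = 0
    · by_cases h2 : a j = 0
      · exact ⟨MvPolynomial.X i + MvPolynomial.X j, add_mem (X_mem n i) (X_mem n j),
          by simpa [h2] using hai.ne_zero, by simpa [h1] using hbj.ne_zero⟩
      · exact ⟨MvPolynomial.X j, X_mem n j, by simpa using h2, by simpa using hbj.ne_zero⟩
    · exact ⟨MvPolynomial.X i, X_mem n i, by simpa using hai.ne_zero, by simpa using h1⟩
  let σ : k →+* Polynomial K := Polynomial.C.comp (algebraMap k K)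
  let w : Fin (n + 1) → Polynomial K := fun m =>
    Polynomial.C (a m) + Polynomial.X * Polynomial.C (b m - a m)
  let P₀ := MvPolynomial.eval₂Hom σ w p
  have hwev : ∀ (c : K) (v : Fin (n + 1) → K), (∀ m, a m + c * (b m - a m) = v m) →
      P₀.eval c = MvPolynomial.eval₂Hom (algebraMap k K) v p := by
    intro c v hv
    rw [← Polynomial.coe_evalRingHom, MvPolynomial.map_eval₂Hom]
    have h1 : (Polynomial.evalRingHom c).comp σ = algebraMap k K := by ext r; simp [σ]
    have h2 : (fun m => Polynomial.evalRingHom c (w m)) = v := funext fun m => by simp [w, hv m]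
    rw [h1, h2]
  let L := Localization.Away P₀
  let σ' : k →+* L := (algebraMap (Polynomial K) L).comp σ
  let w' : Fin (n + 1) → L := fun m => algebraMap (Polynomial K) L (w m)
  have hu : IsUnit (MvPolynomial.eval₂Hom σ' w' p) := by
    have : MvPolynomial.eval₂Hom σ' w' p = algebraMap (Polynomial K) L P₀ :=
      (MvPolynomial.map_eval₂Hom σ w (algebraMap (Polynomial K) L) p).symm
    rw [this]
    exact IsLocalization.Away.algebraMap_isUnit P₀
  let g : Spec (CommRingCat.of L) ⟶ ProjSpace n k :=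
    formPt (B := CommRingCat.of L) σ' w' p hp hu
  let j₀ : Spec (CommRingCat.of L) ⟶ Spec (CommRingCat.of (Polynomial K)) :=
    Spec.map (CommRingCat.ofHom (algebraMap (Polynomial K) L))
  haveI : IsOpenImmersion j₀ := IsOpenImmersion.of_isLocalization P₀
  have hev : ∀ (c : K) (hc : P₀.eval c ≠ 0) (v : Fin (n + 1) → K) (m : Fin (n + 1))
      (hm : IsUnit (v m)), (∀ m, a m + c * (b m - a m) = v m) →
      Spec.map (CommRingCat.ofHom (evalAt P₀ c hc)) ≫ g =
        tuplePt (B := CommRingCat.of K) (algebraMap k K) v m hm := by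
    intro c hc v m hm hv
    have e1 : (evalAt P₀ c hc).comp σ' = algebraMap k K := RingHom.ext fun r =>
      (evalAt_algebraMap P₀ c hc (σ r)).trans (by simp [σ])
    have e2 : evalAt P₀ c hc ∘ w' = v := funext fun i =>
      (evalAt_algebraMap P₀ c hc (w i)).trans (by simp [w, hv i])
    have hu' : IsUnit (MvPolynomial.eval₂Hom (algebraMap k K) v p) :=
      isUnit_iff_ne_zero.mpr (by rw [← hwev c v hv]; exact hc)
    rw [← formPt_eq_tuplePt (B := CommRingCat.of K) (algebraMap k K) v p hp hu' m hm]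
    refine (SpecMap_formPt (CommRingCat.ofHom (evalAt P₀ c hc)) σ' w' p hp hu
      (by simp only [CommRingCat.hom_ofHom, e1, e2]; exact hu')).trans ?_
    simp only [CommRingCat.hom_ofHom, e1, e2]
  have hc0 : P₀.eval 0 ≠ 0 := by rw [hwev 0 a (fun m => by simp)]; exact hpa
  have hc1 : P₀.eval 1 ≠ 0 := by rw [hwev 1 b (fun m => by simp)]; exact hpb
  have hA0 : Spec.map (CommRingCat.ofHom (evalAt P₀ 0 hc0)) ≫ g ≫ e.hom = A.1 ≫ V.ι := by
    rw [← Category.assoc, hev 0 hc0 a i hai (fun m => by simp), ← hA, Category.assoc,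
      Category.assoc, Iso.inv_hom_id, Category.comp_id]
  have hB1 : Spec.map (CommRingCat.ofHom (evalAt P₀ 1 hc1)) ≫ g ≫ e.hom = B.1 ≫ V.ι := by
    rw [← Category.assoc, hev 1 hc1 b j hbj (fun m => by simp), ← hB, Category.assoc,
      Category.assoc, Iso.inv_hom_id, Category.comp_id]
  let t : Spec (CommRingCat.of K) := IsLocalRing.closedPoint K
  let G : Spec (CommRingCat.of L) ⟶ ProjSpaceOver n (Spec (CommRingCat.of k)) := g ≫ e.hom
  let pa := Spec.map (CommRingCat.ofHom (evalAt P₀ 0 hc0)) t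
  let pb := Spec.map (CommRingCat.ofHom (evalAt P₀ 1 hc1)) t
  have ma : pa ∈ G ⁻¹ᵁ V := by
    show G pa ∈ V
    rw [← Scheme.Hom.comp_apply, hA0, Scheme.Hom.comp_apply]
    exact (A.1 t).2
  have mb : pb ∈ G ⁻¹ᵁ V := by
    show G pb ∈ V
    rw [← Scheme.Hom.comp_apply, hB1, Scheme.Hom.comp_apply]
    exact (B.1 t).2
  obtain ⟨P, hP0, hP1, hP⟩ := exists_basicOpen_two _ (j₀ ''ᵁ (G ⁻¹ᵁ V)).2
    (show j₀ pa ∈ j₀ ''ᵁ (G ⁻¹ᵁ V) from ⟨pa, ma, rfl⟩)
    (show j₀ pb ∈ j₀ ''ᵁ (G ⁻¹ᵁ V) from ⟨pb, mb, rfl⟩)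
  have hne : ∀ (c : K) (hc : P₀.eval c ≠ 0),
      P ∉ (j₀ (Spec.map (CommRingCat.ofHom (evalAt P₀ c hc)) t)).asIdeal → P.eval c ≠ 0 := by
    intro c hc hn h
    apply hn
    show evalAt P₀ c hc (algebraMap _ L P) ∈ t.asIdeal
    rw [evalAt_algebraMap, h]
    exact Ideal.zero_mem _
  have d0 := hne 0 hc0 hP0
  have d1 := hne 1 hc1 hP1
  let jP : Spec (CommRingCat.of (Localization.Away P)) ⟶ Spec (CommRingCat.of (Polynomial K)) :=
    Spec.map (CommRingCat.ofHom (algebraMap (Polynomial K) (Localization.Away P)))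
  have hjP : ∀ z, jP z ∈ j₀ ''ᵁ (G ⁻¹ᵁ V) := fun z => hP (fun h =>
    z.isPrime.ne_top (Ideal.eq_top_of_isUnit_mem _ h (IsLocalization.Away.algebraMap_isUnit P)))
  let ι : Spec (CommRingCat.of (Localization.Away P)) ⟶ Spec (CommRingCat.of L) :=
    IsOpenImmersion.lift j₀ jP (by
      rintro _ ⟨z, rfl⟩
      obtain ⟨y, -, hy⟩ := hjP z
      exact ⟨y, hy⟩)
  have hr : Set.range (ι ≫ G) ⊆ Set.range V.ι := by
    rw [Scheme.Opens.range_ι]
    rintro _ ⟨z, rfl⟩
    obtain ⟨y, hy, hy'⟩ := hjP z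
    have : ι z = y := j₀.isOpenEmbedding.injective (by
      refine Eq.trans ?_ hy'.symm
      show (ι ≫ j₀) z = jP z
      rw [IsOpenImmersion.lift_fac])
    rw [Scheme.Hom.comp_apply, this]
    exact hy
  refine elemLink_of_line _ P (IsOpenImmersion.lift V.ι (ι ≫ G) hr) ?_ 0 1 d0 d1 A B ?_ ?_
  · rw [IsOpenImmersion.lift_fac_assoc]
    simp only [G, g, Category.assoc]
    erw [Groth.L16.ProjSpace.isoOver_hom_toBase]
    rw [formPt_toSpec]
    show ι ≫ Spec.map (CommRingCat.ofHom ((algebraMap (Polynomial K) L).comp σ)) = _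
    rw [CommRingCat.ofHom_comp, Spec.map_comp]
    erw [IsOpenImmersion.lift_fac_assoc]
    rw [← Spec.map_comp, ← CommRingCat.ofHom_comp]
  · rw [← cancel_mono V.ι, Category.assoc, IsOpenImmersion.lift_fac, ← hA0, ← Category.assoc]
    congr 1
    rw [← cancel_mono j₀, Category.assoc, IsOpenImmersion.lift_fac, ← Spec.map_comp, ← Spec.map_comp]
    congr 1
    exact CommRingCat.hom_ext (RingHom.ext fun r =>
      (evalAt_algebraMap P 0 d0 r).trans (evalAt_algebraMap P₀ 0 hc0 r).symm)
  · rw [← cancel_mono V.ι, Category.assoc, IsOpenImmersion.lift_fac, ← hB1, ← Category.assoc]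
    congr 1
    rw [← cancel_mono j₀, Category.assoc, IsOpenImmersion.lift_fac, ← Spec.map_comp, ← Spec.map_comp]
    congr 1
    exact CommRingCat.hom_ext (RingHom.ext fun r =>
      (evalAt_algebraMap P 1 d1 r).trans (evalAt_algebraMap P₀ 1 hc1 r).symm)

end Groth.L11.REqHom
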