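import Groth.Agent.L11.REq.MoveIn
import Mathlib.AlgebraicGeometry.Geometrically.Integral
import Mathlib.Algebra.CharZero.Infinite

/-!
# Smooth retract rational varieties are R-trivial
-/

set_option autoImplicit false
set_option linter.style.haveILetI false
set_option backward.isDefEq.respectTransparency.types false
set_option backward.isDefEq.respectTransparency false

universe u

open CategoryTheory AlgebraicGeometry TopologicalSpace

namespace Groth.L11.REqHom

variable {k : Type u} [Field k] {X : Scheme.{u}} [IsIntegral X] (f : X ⟶ Spec (CommRingCat.of k))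

/-- Coordinates of a point of the retract, with a chart on affine space. -/
theorem exists_param (U : X.Opens) (n : ℕ)
    (V : (Spec (CommRingCat.of (MvPolynomial (Fin n) k))).Opens)
    (a : U.toScheme ⟶ V.toScheme) (b : V.toScheme ⟶ U.toScheme)
    (hab : a ≫ b = 𝟙 _)
    (ha : a ≫ V.ι ≫ Spec.map (CommRingCat.ofHom (algebraMap k (MvPolynomial (Fin n) k))) = U.ι ≫ f)
    (hb : b ≫ U.ι ≫ f = V.ι ≫ Spec.map (CommRingCat.ofHom (algebraMap k (MvPolynomial (Fin n) k))))
    (C : X.Opens) (hC : IsAffineOpen C) (b₀ : Γ(X, C))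
    (hbU : ∀ z : Spec Γ(X, C), b₀ ∉ z.asIdeal → hC.fromSpec z ∈ U)
    (φk : CommRingCat.of k ⟶ Γ(X, C)) (hφk : Spec.map φk = hC.fromSpec ≫ f)
    (L : Type u) [Field L] [Algebra k L] (θ : Γ(X, C) →+* L)
    (hθk : ∀ r, θ (φk.hom r) = algebraMap k L r) (hθb : θ b₀ ≠ 0) :
    ∃ (h : MvPolynomial (Fin n) k) (β : Γ(X, C) →+* Localization.Away h) (v : Fin n → L)
      (hvh : IsUnit (MvPolynomial.eval₂Hom (algebraMap k L) v h)),
      β.comp φk.hom = algebraMap k (Localization.Away h) ∧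
        ∀ x, IsLocalization.Away.lift h hvh (β x) = θ x := by
  let θ' : Γ(X, C) ⟶ CommRingCat.of L := CommRingCat.ofHom θ
  have hu : ∀ z : Spec (CommRingCat.of L), hC.fromSpec (Spec.map θ' z) ∈ U := fun z =>
    hbU _ fun h => z.isPrime.ne_top (Ideal.eq_top_of_isUnit_mem _ h (isUnit_iff_ne_zero.mpr hθb))
  let uL := IsOpenImmersion.lift U.ι (Spec.map θ' ≫ hC.fromSpec) (by
    rw [Scheme.Opens.range_ι]
    rintro _ ⟨z, rfl⟩
    exact hu z)
  obtain ⟨v, hv⟩ := exists_coord L (uL ≫ a ≫ V.ι) (by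
    rw [Category.assoc, Category.assoc, ha, IsOpenImmersion.lift_fac_assoc, Category.assoc, ← hφk,
      ← Spec.map_comp]
    congr 1
    exact CommRingCat.hom_ext (RingHom.ext hθk))
  let tL : Spec (CommRingCat.of L) := IsLocalRing.closedPoint L
  let OV : V.toScheme.Opens := (b ≫ U.ι) ⁻¹ᵁ (hC.fromSpec ''ᵁ PrimeSpectrum.basicOpen b₀)
  have hOV : (a (uL tL)) ∈ OV := by
    show (b ≫ U.ι) (a (uL tL)) ∈ hC.fromSpec ''ᵁ PrimeSpectrum.basicOpen b₀
    rw [← Scheme.Hom.comp_apply, ← Scheme.Hom.comp_apply, reassoc_of% hab,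
      IsOpenImmersion.lift_fac, Scheme.Hom.comp_apply]
    exact ⟨_, fun h => tL.isPrime.ne_top (Ideal.eq_top_of_isUnit_mem _ h
      (isUnit_iff_ne_zero.mpr hθb)), rfl⟩
  obtain ⟨h, hh, -, hhO⟩ := exists_basicOpen_two _ (V.ι ''ᵁ OV).2
    (show V.ι (a (uL tL)) ∈ V.ι ''ᵁ OV from ⟨_, hOV, rfl⟩) ⟨_, hOV, rfl⟩
  have e1 : V.ι (a (uL tL)) =
      Spec.map (CommRingCat.ofHom (MvPolynomial.aeval v).toRingHom) tL := by
    rw [← hv]; rfl
  rw [e1] at hh
  have hvh : IsUnit (MvPolynomial.eval₂Hom (algebraMap k L) v h) :=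
    isUnit_iff_ne_zero.mpr fun h0 => hh (by
      show MvPolynomial.aeval v h ∈ tL.asIdeal
      rw [show MvPolynomial.aeval v h = MvPolynomial.eval₂Hom (algebraMap k L) v h from rfl, h0]
      exact Ideal.zero_mem _)
  let jh : Spec (CommRingCat.of (Localization.Away h)) ⟶ Spec (CommRingCat.of (MvPolynomial (Fin n) k)) :=
    Spec.map (CommRingCat.ofHom (algebraMap _ (Localization.Away h)))
  have hjh : ∀ z, jh z ∈ V.ι ''ᵁ OV := fun z => hhO fun hz =>
    z.isPrime.ne_top (Ideal.eq_top_of_isUnit_mem _ hz (IsLocalization.Away.algebraMap_isUnit h))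
  let jV : Spec (CommRingCat.of (Localization.Away h)) ⟶ V.toScheme :=
    IsOpenImmersion.lift V.ι jh (by
      rintro _ ⟨z, rfl⟩
      obtain ⟨w, -, hw⟩ := hjh z
      exact ⟨w, hw⟩)
  have hjC : Set.range (jV ≫ b ≫ U.ι) ⊆ Set.range hC.fromSpec := by
    rintro _ ⟨z, rfl⟩
    obtain ⟨w, hw, hw'⟩ := hjh z
    have : jV z = w := V.ι.isOpenEmbedding.injective (by
      refine Eq.trans ?_ hw'.symm
      show (jV ≫ V.ι) z = jh z
      rw [IsOpenImmersion.lift_fac])
    rw [Scheme.Hom.comp_apply, this]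
    obtain ⟨y, -, hy⟩ := hw
    exact ⟨y, hy⟩
  let β : Γ(X, C) ⟶ CommRingCat.of (Localization.Away h) :=
    Spec.preimage (IsOpenImmersion.lift hC.fromSpec _ hjC)
  have hβC : Spec.map β ≫ hC.fromSpec = jV ≫ b ≫ U.ι := by
    rw [Spec.map_preimage, IsOpenImmersion.lift_fac]
  refine ⟨h, β.hom, v, hvh, ?_, ?_⟩
  · have e : φk ≫ β = CommRingCat.ofHom (algebraMap k (Localization.Away h)) := by
      apply Spec.map_injective
      rw [Spec.map_comp, hφk, ← Category.assoc, hβC, Category.assoc, Category.assoc, hb,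
        IsOpenImmersion.lift_fac_assoc, ← Spec.map_comp, ← CommRingCat.ofHom_comp]
      congr 2
    exact congrArg CommRingCat.Hom.hom e
  · have key : β ≫ CommRingCat.ofHom (IsLocalization.Away.lift h hvh) = θ' := by
      apply Spec.map_injective
      rw [← cancel_mono hC.fromSpec, Spec.map_comp, Category.assoc, hβC]
      have h1 : Spec.map (CommRingCat.ofHom (IsLocalization.Away.lift h hvh)) ≫ jV = uL ≫ a := by
        rw [← cancel_mono V.ι, Category.assoc, Category.assoc, IsOpenImmersion.lift_fac, hv,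
          ← Spec.map_comp, ← CommRingCat.ofHom_comp]
        congr 2
        exact RingHom.ext fun r => IsLocalization.Away.lift_eq h hvh r
      rw [← Category.assoc, h1, Category.assoc, reassoc_of% hab, IsOpenImmersion.lift_fac]
    exact fun x => RingHom.congr_fun (congrArg CommRingCat.Hom.hom key) x

/-- A rational point of a smooth retract rational variety is directly linked to one in the retract. -/
theorem exists_link_mem [Smooth f] (U : X.Opens) (n : ℕ)
    (V : (Spec (CommRingCat.of (MvPolynomial (Fin n) k))).Opens)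
    (a : U.toScheme ⟶ V.toScheme) (b : V.toScheme ⟶ U.toScheme) (hUne : (U : Set X).Nonempty)
    (hab : a ≫ b = 𝟙 _)
    (ha : a ≫ V.ι ≫ Spec.map (CommRingCat.ofHom (algebraMap k (MvPolynomial (Fin n) k))) = U.ι ≫ f)
    (hb : b ≫ U.ι ≫ f = V.ι ≫ Spec.map (CommRingCat.ofHom (algebraMap k (MvPolynomial (Fin n) k))))
    (K : Type u) [Field K] [Infinite K] [Algebra k K] (A : REq.Pts f K) :
    ∃ A' : REq.Pts f K, REq.InOpen f U A' ∧ REq.REquiv f K A A' := by
  haveI : Subsingleton (Spec (CommRingCat.of K)) := inferInstanceAs (Subsingleton (PrimeSpectrum K))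
  let t₀ : Spec (CommRingCat.of K) := IsLocalRing.closedPoint K
  by_cases hAU : A.1 t₀ ∈ U
  · refine ⟨A, ?_, Relation.EqvGen.refl A⟩
    rintro _ ⟨t, rfl⟩
    rw [Subsingleton.elim t t₀]; exact hAU
  obtain ⟨_, ⟨(C : X.Opens), hC, rfl⟩, hAC, -⟩ :=
    X.isBasis_affineOpens.exists_subset_of_mem_open (Set.mem_univ (A.1 t₀)) isOpen_univ
  haveI : Nonempty C.toScheme := ⟨⟨_, hAC⟩⟩
  let B : CommRingCat.{u} := Γ(X, C)
  haveI : IsDomain B := inferInstanceAs (IsDomain Γ(X, C))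
  let φk : CommRingCat.of k ⟶ B := Spec.preimage (hC.fromSpec ≫ f)
  letI : Algebra k B := φk.hom.toAlgebra
  have hφk : Spec.map φk = hC.fromSpec ≫ f := Spec.map_preimage _
  haveI : Algebra.Smooth k B := by
    have h : Smooth (Spec.map φk) := by rw [hφk]; infer_instance
    exact RingHom.smooth_algebraMap.1 (HasRingHomProperty.Spec_iff.mp h)
  haveI : Algebra.FiniteType k B := inferInstance
  have hA : Set.range A.1 ⊆ Set.range hC.fromSpec := by
    rw [hC.range_fromSpec]; rintro _ ⟨t, rfl⟩; rw [Subsingleton.elim t t₀]; exact hAC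
  let φ' : B ⟶ CommRingCat.of K := Spec.preimage (IsOpenImmersion.lift hC.fromSpec A.1 hA)
  have hφ' : Spec.map φ' ≫ hC.fromSpec = A.1 := by rw [Spec.map_preimage, IsOpenImmersion.lift_fac]
  have hφk' : φk ≫ φ' = CommRingCat.ofHom (algebraMap k K) := Spec.map_injective (by
    rw [Spec.map_comp, hφk, ← Category.assoc, hφ']; exact A.2)
  let φ : B →ₐ[k] K :=
    { φ'.hom with commutes' := RingHom.congr_fun (congrArg CommRingCat.Hom.hom hφk') }
  obtain ⟨u, hu⟩ := hUne
  obtain ⟨y, hy⟩ : ∃ y : Spec B, hC.fromSpec y ∈ U := by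
    have hmem : ∃ y, y ∈ (U : Set X) ∧ y ∈ (C : Set X) :=
      (U.2.dense ⟨u, hu⟩).inter_open_nonempty C C.2 ⟨_, hAC⟩ |>.imp fun y h => ⟨h.2, h.1⟩
    obtain ⟨y, h1, h2⟩ := hmem
    obtain ⟨z, rfl⟩ : y ∈ Set.range hC.fromSpec := by rw [hC.range_fromSpec]; exact h2
    exact ⟨z, h1⟩
  obtain ⟨b₀, hb₀y, -, hbU⟩ := exists_basicOpen_two _ (hC.fromSpec ⁻¹ᵁ U).2 hy hy
  have hbU' : ∀ z : Spec Γ(X, C), b₀ ∉ z.asIdeal → hC.fromSpec z ∈ U := fun z hz => hbU hz
  have hb₀ : b₀ ≠ 0 := fun h => hb₀y (h ▸ Ideal.zero_mem _)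
  have hφb : φ b₀ = 0 := by
    by_contra hne
    refine hAU ?_
    rw [← hφ', Scheme.Hom.comp_apply]
    refine hbU ?_
    show b₀ ∉ (Spec.map φ' t₀).asIdeal
    exact fun h => t₀.isPrime.ne_top (Ideal.eq_top_of_isUnit_mem _ h (isUnit_iff_ne_zero.mpr hne))
  obtain ⟨O, _, _, _, _, _, _, ε, θ, hθ, hθb⟩ := exists_arc k B K φ b₀ hb₀ hφb
  letI : Algebra k (FractionRing O) :=
    ((algebraMap O (FractionRing O)).comp (algebraMap k O)).toAlgebra
  obtain ⟨h, β, v, hvh, hβk, hβ⟩ := exists_param f U n V a b hab ha hb C hC b₀ hbU' φk hφk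
    (FractionRing O) ((algebraMap O (FractionRing O)).comp θ.toRingHom)
    (fun r => congrArg (algebraMap O (FractionRing O)) (θ.commutes r))
    ((map_ne_zero_iff _ (IsFractionRing.injective O (FractionRing O))).mpr hθb)
  obtain ⟨P, Ψ, c, h0, hc, hΨk, hΨ0, hΨb⟩ := exists_line φ ε θ hθ b₀ hθb h β hβk v hvh hβ
  let H : Spec (CommRingCat.of (Localization.Away P)) ⟶ X := Spec.map (CommRingCat.ofHom Ψ) ≫ hC.fromSpec
  have hH : H ≫ f = Spec.map (CommRingCat.ofHom
      ((algebraMap (Polynomial K) (Localization.Away P)).comp (Polynomial.C.comp (algebraMap k K)))) := by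
    rw [Category.assoc, ← hφk, ← Spec.map_comp]
    congr 1
    exact CommRingCat.hom_ext hΨk
  let A' : REq.Pts f K := ⟨Spec.map (CommRingCat.ofHom (evalAt P c hc)) ≫ H, by
    rw [Category.assoc, hH, ← Spec.map_comp, ← CommRingCat.ofHom_comp]
    congr 2
    ext r
    exact (evalAt_algebraMap P c hc _).trans Polynomial.eval_C⟩
  refine ⟨A', ?_, Relation.EqvGen.rel _ _ (elemLink_of_line f P H hH 0 c h0 hc A A' ?_ rfl)⟩
  · rintro _ ⟨z, rfl⟩
    show (Spec.map (CommRingCat.ofHom (evalAt P c hc)) ≫ H) z ∈ U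
    rw [← Category.assoc, ← Spec.map_comp, Scheme.Hom.comp_apply]
    refine hbU fun hz => ?_
    exact z.isPrime.ne_top (Ideal.eq_top_of_isUnit_mem _ hz (isUnit_iff_ne_zero.mpr hΨb))
  · rw [← Category.assoc, ← Spec.map_comp, ← hφ']
    congr 2
    exact CommRingCat.hom_ext hΨ0

theorem isRTrivial [CharZero k] [Smooth f] (hX : REq.IsRetractRational f) : REq.IsRTrivial f := by
  obtain ⟨U, n, V, a, b, hne, hab, ha, hb⟩ := hX
  obtain ⟨W, hW, ⟨w₀, -⟩, -⟩ := isAlmostRTrivial f ⟨U, n, V, a, b, hne, hab, ha, hb⟩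
  intro K _ _
  haveI : CharZero K := charZero_of_injective_algebraMap (algebraMap k K).injective
  refine ⟨⟨⟨REq.specMap k K ≫ w₀.1, ?_⟩⟩, fun A B => ?_⟩
  · rw [Category.assoc, w₀.2, show REq.specMap k k = 𝟙 _ by simp [REq.specMap], Category.comp_id]
  obtain ⟨A', hA', hAA'⟩ := exists_link_mem f U n V a b hne hab ha hb K A
  obtain ⟨B', hB', hBB'⟩ := exists_link_mem f U n V a b hne hab ha hb K B
  refine Relation.EqvGen.trans _ _ _ hAA' (Relation.EqvGen.trans _ _ _ (Relation.EqvGen.rel _ _ ?_)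
    (Relation.EqvGen.symm _ _ hBB'))
  have hrA : Set.range A'.1 ⊆ Set.range U.ι := by rw [Scheme.Opens.range_ι]; exact hA'
  have hrB : Set.range B'.1 ⊆ Set.range U.ι := by rw [Scheme.Opens.range_ι]; exact hB'
  obtain ⟨O, h, s, t, hh, hs, ht, hsA, htB⟩ := exists_open_elemLink f U n V a b hab ha hb K
    ⟨IsOpenImmersion.lift U.ι A'.1 hrA, by rw [IsOpenImmersion.lift_fac_assoc]; exact A'.2⟩
    ⟨IsOpenImmersion.lift U.ι B'.1 hrB, by rw [IsOpenImmersion.lift_fac_assoc]; exact B'.2⟩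
  exact ⟨O, h ≫ U.ι, s, t, by rw [Category.assoc, hh], hs, ht,
    by rw [← Category.assoc, hsA, IsOpenImmersion.lift_fac],
    by rw [← Category.assoc, htB, IsOpenImmersion.lift_fac]⟩

end Groth.L11.REqHom
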