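import Groth.Agent.L11.REq.Line
import Mathlib.RingTheory.Ideal.Operations
import Mathlib.Algebra.MvPolynomial.Funext
import Mathlib.AlgebraicGeometry.Properties

/-!
# Retract rational varieties
-/

set_option autoImplicit false
set_option linter.style.haveILetI false
set_option backward.isDefEq.respectTransparency.types false
set_option backward.isDefEq.respectTransparency false

universe u

open CategoryTheory CategoryTheory.Limits AlgebraicGeometry TopologicalSpace

namespace Groth.L11.REqHom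

variable {k : Type u} [Field k]

/-- A point of affine space over an extension is given by coordinates. -/
theorem exists_coord {n : ℕ} (K : Type u) [Field K] [Algebra k K]
    (x : Spec (CommRingCat.of K) ⟶ Spec (CommRingCat.of (MvPolynomial (Fin n) k)))
    (hx : x ≫ Spec.map (CommRingCat.ofHom (algebraMap k (MvPolynomial (Fin n) k))) =
      REq.specMap k K) :
    ∃ p : Fin n → K, x = Spec.map (CommRingCat.ofHom (MvPolynomial.aeval p).toRingHom) := by
  obtain ⟨φ, rfl⟩ := Spec.map_surjective x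
  rw [← Spec.map_comp] at hx
  have h := congrArg CommRingCat.Hom.hom (Spec.map_injective hx)
  refine ⟨fun i => φ.hom (MvPolynomial.X i), congrArg Spec.map (CommRingCat.hom_ext ?_)⟩
  refine MvPolynomial.ringHom_ext (fun r => ?_) (fun i => by simp)
  exact (RingHom.congr_fun h r).trans ((MvPolynomial.aeval_C _ r).symm)

/-- An open of a spectrum containing two given points contains a common basic open around them. -/
theorem exists_basicOpen_two {R : Type u} [CommRing R] (O : Set (PrimeSpectrum R)) (hO : IsOpen O)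
    {x y : PrimeSpectrum R} (hx : x ∈ O) (hy : y ∈ O) :
    ∃ r : R, r ∉ x.asIdeal ∧ r ∉ y.asIdeal ∧ (PrimeSpectrum.basicOpen r : Set (PrimeSpectrum R)) ⊆ O := by
  obtain ⟨s, hs⟩ := (PrimeSpectrum.isOpen_iff O).mp hO
  have hs' : Oᶜ = PrimeSpectrum.zeroLocus (Ideal.span s : Set R) := by
    rw [PrimeSpectrum.zeroLocus_span, hs]
  have hmem : ∀ z ∈ O, ¬ Ideal.span s ≤ z.asIdeal := fun z hz hle =>
    (show z ∈ Oᶜ by rw [hs']; exact (PrimeSpectrum.mem_zeroLocus _ _).mpr hle) hz
  have hnot : ¬ ((Ideal.span s : Set R) ⊆ (x.asIdeal : Set R) ∪ y.asIdeal) := fun h =>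
    (Ideal.subset_union.mp h).elim (hmem x hx) (hmem y hy)
  obtain ⟨r, hr, hr'⟩ := Set.not_subset.mp hnot
  refine ⟨r, fun h => hr' (Or.inl h), fun h => hr' (Or.inr h), fun z hz => ?_⟩
  by_contra hz'
  have : z ∈ Oᶜ := hz'
  rw [hs', PrimeSpectrum.mem_zeroLocus] at this
  exact hz (this hr)

/-- Retract rationality gives direct links inside an open. -/
theorem exists_open_elemLink {X : Scheme.{u}} (f : X ⟶ Spec (CommRingCat.of k))
    (U : X.Opens) (n : ℕ) (V : (Spec (CommRingCat.of (MvPolynomial (Fin n) k))).Opens)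
    (a : U.toScheme ⟶ V.toScheme) (b : V.toScheme ⟶ U.toScheme) (hab : a ≫ b = 𝟙 _)
    (ha : a ≫ V.ι ≫ Spec.map (CommRingCat.ofHom (algebraMap k (MvPolynomial (Fin n) k))) = U.ι ≫ f)
    (hb : b ≫ U.ι ≫ f = V.ι ≫ Spec.map (CommRingCat.ofHom (algebraMap k (MvPolynomial (Fin n) k))))
    (K : Type u) [Field K] [Algebra k K] (A B : REq.Pts (U.ι ≫ f) K) :
    REq.ElemLink (U.ι ≫ f) K A B := by
  obtain ⟨p, hp⟩ := exists_coord K (A.1 ≫ a ≫ V.ι)
    (by rw [Category.assoc, Category.assoc, ha]; exact A.2)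
  obtain ⟨q, hq⟩ := exists_coord K (B.1 ≫ a ≫ V.ι)
    (by rw [Category.assoc, Category.assoc, ha]; exact B.2)
  let γ : MvPolynomial (Fin n) k →+* Polynomial K := MvPolynomial.eval₂Hom
    (Polynomial.C.comp (algebraMap k K)) fun i => Polynomial.C (p i) + Polynomial.X * Polynomial.C (q i - p i)
  have hev : ∀ (c : K) (v : Fin n → K), (∀ i, p i + c * (q i - p i) = v i) →
      (Polynomial.evalRingHom c).comp γ = (MvPolynomial.aeval v).toRingHom := fun c v hv =>
    MvPolynomial.ringHom_ext (fun r => by simp [γ]) (fun i => by simp [γ, hv i])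
  let g : Spec (CommRingCat.of (Polynomial K)) ⟶ Spec (CommRingCat.of (MvPolynomial (Fin n) k)) :=
    Spec.map (CommRingCat.ofHom γ)
  let e : K → (Spec (CommRingCat.of (Polynomial K))) := fun c =>
    Spec.map (CommRingCat.ofHom (Polynomial.evalRingHom c)) (IsLocalRing.closedPoint K)
  have hmem : ∀ (c : K) (v : Fin n → K) (x : Spec (CommRingCat.of K) ⟶ U.toScheme),
      (∀ i, p i + c * (q i - p i) = v i) →
      x ≫ a ≫ V.ι = Spec.map (CommRingCat.ofHom (MvPolynomial.aeval v).toRingHom) →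
      Spec.map (CommRingCat.ofHom (Polynomial.evalRingHom c)) ≫ g = x ≫ a ≫ V.ι := fun c v x hv hx => by
    rw [hx, ← Spec.map_comp, ← CommRingCat.ofHom_comp, hev c v hv]
  have h0 := hmem 0 p A.1 (fun i => by simp) hp
  have h1 := hmem 1 q B.1 (fun i => by simp) hq
  have m0 : e 0 ∈ g ⁻¹ᵁ V := by
    show g (e 0) ∈ V
    rw [← Scheme.Hom.comp_apply, h0, Scheme.Hom.comp_apply, Scheme.Hom.comp_apply]
    exact (a (A.1 _)).2
  have m1 : e 1 ∈ g ⁻¹ᵁ V := by
    show g (e 1) ∈ V
    rw [← Scheme.Hom.comp_apply, h1, Scheme.Hom.comp_apply, Scheme.Hom.comp_apply]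
    exact (a (B.1 _)).2
  obtain ⟨P, hP0, hP1, hP⟩ := exists_basicOpen_two _ (g ⁻¹ᵁ V).2 m0 m1
  have he : ∀ c, P ∉ (e c).asIdeal → P.eval c ≠ 0 := fun c hc h => hc (by
    show Polynomial.evalRingHom c P ∈ (IsLocalRing.closedPoint K).asIdeal
    rw [Polynomial.coe_evalRingHom, h]
    exact Ideal.zero_mem _)
  let j : Spec (CommRingCat.of (Localization.Away P)) ⟶ Spec (CommRingCat.of (Polynomial K)) :=
    Spec.map (CommRingCat.ofHom (algebraMap (Polynomial K) (Localization.Away P)))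
  have hr : Set.range (j ≫ g) ⊆ Set.range V.ι := by
    rw [Scheme.Opens.range_ι]
    rintro _ ⟨z, rfl⟩
    rw [Scheme.Hom.comp_apply]
    refine hP ?_
    show P ∉ Ideal.comap (algebraMap (Polynomial K) (Localization.Away P)) z.asIdeal
    exact fun h => z.isPrime.ne_top (Ideal.eq_top_of_isUnit_mem _ h
      (IsLocalization.Away.algebraMap_isUnit P))
  let h : Spec (CommRingCat.of (Localization.Away P)) ⟶ U.toScheme :=
    IsOpenImmersion.lift V.ι (j ≫ g) hr ≫ b
  have hh : h ≫ U.ι ≫ f = Spec.map (CommRingCat.ofHom ((algebraMap (Polynomial K) (Localization.Away P)).comp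
      (Polynomial.C.comp (algebraMap k K)))) := by
    rw [Category.assoc, hb, IsOpenImmersion.lift_fac_assoc, Category.assoc, ← Spec.map_comp,
      ← Spec.map_comp, ← CommRingCat.ofHom_comp, ← CommRingCat.ofHom_comp]
    congr 3
    ext r; simp [γ]
  have hpt : ∀ (c : K) (hc : P.eval c ≠ 0) (x : Spec (CommRingCat.of K) ⟶ U.toScheme),
      Spec.map (CommRingCat.ofHom (Polynomial.evalRingHom c)) ≫ g = x ≫ a ≫ V.ι →
      Spec.map (CommRingCat.ofHom (evalAt P c hc)) ≫ h = x := fun c hc x hx => by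
    rw [← Category.assoc]
    refine (congrArg (· ≫ b) ?_).trans ((Category.assoc _ _ _).trans
      ((congrArg (x ≫ ·) hab).trans (Category.comp_id _)))
    rw [← cancel_mono V.ι, Category.assoc, Category.assoc, IsOpenImmersion.lift_fac,
      ← Category.assoc, ← hx, ← Spec.map_comp, ← CommRingCat.ofHom_comp]
    congr 3
    exact RingHom.ext (evalAt_algebraMap P c hc)
  exact elemLink_of_line (U.ι ≫ f) P h hh 0 1 (he 0 hP0) (he 1 hP1) A B
    (hpt 0 _ A.1 h0) (hpt 1 _ B.1 h1)

theorem retract_elemLink {X : Scheme.{u}} (f : X ⟶ Spec (CommRingCat.of k))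
    (hX : REq.IsRetractRational f) :
    ∃ U : X.Opens, (U : Set X).Nonempty ∧
      (∀ (K : Type u) [Field K] [Algebra k K] (A B : REq.Pts (U.ι ≫ f) K),
        REq.ElemLink (U.ι ≫ f) K A B) ∧
      (Infinite k → Nonempty (REq.Pts (U.ι ≫ f) k)) := by
  obtain ⟨U, n, V, a, b, hUne, hab, ha, hb⟩ := hX
  refine ⟨U, hUne, fun K _ _ A B => exists_open_elemLink f U n V a b hab ha hb K A B, fun _ => ?_⟩
  obtain ⟨u, hu⟩ := hUne
  have hv : (a ⟨u, hu⟩).1 ∈ V := (a ⟨u, hu⟩).2
  obtain ⟨r, hr, -, hrV⟩ := exists_basicOpen_two _ V.2 hv hv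
  have hr0 : r ≠ 0 := fun h => hr (h ▸ Ideal.zero_mem _)
  obtain ⟨p, hp⟩ : ∃ p : Fin n → k, MvPolynomial.eval p r ≠ 0 := by
    by_contra h
    push_neg at h
    exact hr0 (MvPolynomial.funext fun p => (h p).trans (map_zero _).symm)
  let x : Spec (CommRingCat.of k) ⟶ Spec (CommRingCat.of (MvPolynomial (Fin n) k)) :=
    Spec.map (CommRingCat.ofHom (MvPolynomial.eval p))
  have hx : Set.range x ⊆ Set.range V.ι := by
    rw [Scheme.Opens.range_ι]
    rintro _ ⟨z, rfl⟩
    refine hrV fun h => ?_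
    exact z.isPrime.ne_top (Ideal.eq_top_of_isUnit_mem _ (h : MvPolynomial.eval p r ∈ z.asIdeal)
      (isUnit_iff_ne_zero.mpr hp))
  refine ⟨⟨IsOpenImmersion.lift V.ι x hx ≫ b, ?_⟩⟩
  rw [Category.assoc, hb, IsOpenImmersion.lift_fac_assoc, ← Spec.map_comp, ← CommRingCat.ofHom_comp]
  congr 2
  ext r'; simp

/-- Retract rational varieties over infinite fields are almost R-trivial. -/
theorem isAlmostRTrivial {X : Scheme.{u}} [IrreducibleSpace X] (f : X ⟶ Spec (CommRingCat.of k))
    [Infinite k] (hX : REq.IsRetractRational f) :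
    ∃ U : X.Opens, Dense (U : Set X) ∧ (∃ A : REq.Pts f k, REq.InOpen f U A) ∧
      ∀ (K : Type u) [Field K] [Algebra k K], (∃ A : REq.Pts f K, REq.InOpen f U A) ∧
        ∀ A B : REq.Pts f K, REq.InOpen f U A → REq.InOpen f U B → REq.ElemLink f K A B := by
  obtain ⟨U, hne, hlink, hpt⟩ := retract_elemLink f hX
  obtain ⟨x₀⟩ := hpt inferInstance
  have hx : ∀ (K : Type u) [Field K] [Algebra k K], ∃ A : REq.Pts f K, REq.InOpen f U A := fun K _ _ =>
    ⟨⟨REq.specMap k K ≫ x₀.1 ≫ U.ι, by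
      rw [Category.assoc, Category.assoc, x₀.2, show REq.specMap k k = 𝟙 _ by simp [REq.specMap],
        Category.comp_id]⟩, by
      rintro _ ⟨t, rfl⟩
      exact (x₀.1 (REq.specMap k K t)).2⟩
  refine ⟨U, U.2.dense hne, hx k, fun K _ _ => ⟨hx K, fun A B hA hB => ?_⟩⟩
  have hA' : Set.range A.1 ⊆ Set.range U.ι := by rw [Scheme.Opens.range_ι]; exact hA
  have hB' : Set.range B.1 ⊆ Set.range U.ι := by rw [Scheme.Opens.range_ι]; exact hB
  obtain ⟨O, h, s, t, hh, hs, ht, hsA, htB⟩ := hlink K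
    ⟨IsOpenImmersion.lift U.ι A.1 hA', by rw [IsOpenImmersion.lift_fac_assoc]; exact A.2⟩
    ⟨IsOpenImmersion.lift U.ι B.1 hB', by rw [IsOpenImmersion.lift_fac_assoc]; exact B.2⟩
  exact ⟨O, h ≫ U.ι, s, t, by rw [Category.assoc, hh], hs, ht,
    by rw [← Category.assoc, hsA, IsOpenImmersion.lift_fac],
    by rw [← Category.assoc, htB, IsOpenImmersion.lift_fac]⟩

end Groth.L11.REqHom
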