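import Groth.Agent.L16.ProjSpace.Basic
import Groth.Agent.L16.ProjSpace.BaseChange
import Groth.Prelude.Def_W4c5nonratstablectREq

/-!
# R-equivalence classes lie in one piece of a closed decomposition
-/

set_option autoImplicit false
set_option linter.style.haveILetI false
set_option backward.isDefEq.respectTransparency.types false
set_option backward.isDefEq.respectTransparency false

universe u

open CategoryTheory AlgebraicGeometry TopologicalSpace

namespace Groth.L11.REqHom

theorem not_rEquiv_of_cover (k : Type u) [Field k] (Y : Scheme.{u})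
    (g : Y ⟶ Spec (CommRingCat.of k)) (K : Type u) [Field K] [Algebra k K]
    (V W : Set Y) (hV : IsClosed V) (hW : IsClosed W) (hVW : V ∪ W = Set.univ)
    (hT : ∀ z : REq.Pts g K, ¬ (Set.range z.1.base ⊆ V ∩ W))
    (p q : REq.Pts g K) (hp : Set.range p.1.base ⊆ V) (hq : Set.range q.1.base ⊆ W) :
    ¬ REq.REquiv g K p q := by
  haveI hsub : Subsingleton (Spec (CommRingCat.of K)) :=
    inferInstanceAs (Subsingleton (PrimeSpectrum K))
  let t : Spec (CommRingCat.of K) := IsLocalRing.closedPoint K
  let pos : REq.Pts g K → Prop := fun z => z.1.base t ∈ V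
  have hnot : ∀ z : REq.Pts g K, z.1.base t ∈ V → z.1.base t ∉ W := fun z h1 h2 =>
    hT z (by rintro _ ⟨s, rfl⟩; rw [Subsingleton.elim s t]; exact ⟨h1, h2⟩)
  have key : ∀ A B, REq.REquiv g K A B → (pos A ↔ pos B) := by
    intro A B h
    induction h with
    | rel A B h =>
      obtain ⟨U, h, a, b, -, -, -, hA, hB⟩ := h
      haveI : IsIntegral (REq.P1K K) := by
        haveI : Nonempty (REq.P1K K) := ⟨(a t).1⟩
        exact isIntegral_of_isOpenImmersion (Groth.L16.ProjSpace.isoOver 1 K).inv
      show A.1.base t ∈ V ↔ B.1.base t ∈ V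
      haveI : Nonempty (U : Scheme.{u}) := ⟨a t⟩
      haveI : IsIntegral (U : Scheme.{u}) := isIntegral_of_isOpenImmersion U.ι
      have hA' : h.base (a.base t) = A.1.base t := by rw [← hA]; rfl
      have hB' : h.base (b.base t) = B.1.base t := by rw [← hB]; rfl
      have hsplit : h.base ⁻¹' V = Set.univ ∨ h.base ⁻¹' W = Set.univ := by
        have hp' := ((irreducibleSpace_def (U : Scheme.{u})).mp inferInstance).2
        have := (isPreirreducible_iff_isClosed_union_isClosed.mp hp') (h.base ⁻¹' V) (h.base ⁻¹' W)
          (hV.preimage h.base.hom.continuous) (hW.preimage h.base.hom.continuous)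
          (fun x _ => show h.base x ∈ V ∪ W by rw [hVW]; trivial)
        exact this.imp Set.eq_univ_of_univ_subset Set.eq_univ_of_univ_subset
      rcases hsplit with hs | hs
      · exact iff_of_true (show A.1.base t ∈ V by rw [← hA']; exact hs.ge trivial)
          (show B.1.base t ∈ V by rw [← hB']; exact hs.ge trivial)
      · exact iff_of_false (fun hc => hnot A hc (by rw [← hA']; exact hs.ge trivial))
          (fun hc => hnot B hc (by rw [← hB']; exact hs.ge trivial))
    | refl A => exact Iff.rfl
    | symm _ _ _ ih => exact ih.symm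
    | trans _ _ _ _ _ i1 i2 => exact i1.trans i2
  exact fun h => hnot q ((key p q h).mp (hp ⟨t, rfl⟩)) (hq ⟨t, rfl⟩)

end Groth.L11.REqHom
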